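import Mathlib

/-!
# The derived series of a subgroup, inside the ambient group; weighted vectors
-/

set_option autoImplicit false

namespace Cfsg.Agent.H511.Wt

open Subgroup
open scoped commutatorElement

variable {G G' : Type*} [Group G] [Group G']

/-- the derived series of the subgroup `K`, as subgroups of the ambient group -/
def dser (K : Subgroup G) : ℕ → Subgroup G
  | 0 => K
  | n + 1 => ⁅dser K n, dser K n⁆

@[simp] theorem dser_zero (K : Subgroup G) : dser K 0 = K := rfl

theorem dser_succ (K : Subgroup G) (n : ℕ) : dser K (n + 1) = ⁅dser K n, dser K n⁆ := rfl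

theorem dser_mono {K L : Subgroup G} (h : K ≤ L) (n : ℕ) : dser K n ≤ dser L n := by
  induction n with
  | zero => exact h
  | succ n ih => exact commutator_mono ih ih

theorem commutator_self_le (K : Subgroup G) : ⁅K, K⁆ ≤ K := by
  rw [commutator_le]
  intro a ha b hb
  exact K.mul_mem (K.mul_mem (K.mul_mem ha hb) (K.inv_mem ha)) (K.inv_mem hb)

theorem dser_succ_le (K : Subgroup G) (n : ℕ) : dser K (n + 1) ≤ dser K n := commutator_self_le _

theorem dser_anti (K : Subgroup G) {m n : ℕ} (h : m ≤ n) : dser K n ≤ dser K m := by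
  induction h with
  | refl => exact le_rfl
  | step _ ih => exact (dser_succ_le K _).trans ih

theorem dser_le (K : Subgroup G) (n : ℕ) : dser K n ≤ K := dser_anti K (Nat.zero_le n)

theorem dser_dser (K : Subgroup G) (m n : ℕ) : dser (dser K m) n = dser K (m + n) := by
  induction n with
  | zero => rfl
  | succ n ih => rw [dser_succ, ih, ← Nat.add_assoc, dser_succ]

theorem map_dser (f : G →* G') (K : Subgroup G) (n : ℕ) : (dser K n).map f = dser (K.map f) n := by
  induction n with
  | zero => rfl
  | succ n ih => rw [dser_succ, dser_succ, map_commutator, ih]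

theorem dser_top (n : ℕ) : dser (⊤ : Subgroup G) n = derivedSeries G n := by
  induction n with
  | zero => rfl
  | succ n ih => rw [dser_succ, ih, derivedSeries_succ]

theorem dser_eq_map (K : Subgroup G) (n : ℕ) : dser K n = (derivedSeries K n).map K.subtype := by
  rw [← dser_top, map_dser, ← MonoidHom.range_eq_map, range_subtype]

theorem dser_eq_bot_iff (K : Subgroup G) (n : ℕ) : dser K n = ⊥ ↔ derivedSeries K n = ⊥ := by
  rw [dser_eq_map, map_eq_bot_iff_of_injective _ K.subtype_injective]

instance dser_normal (K : Subgroup G) [K.Normal] (n : ℕ) : (dser K n).Normal := by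
  induction n with
  | zero => assumption
  | succ n ih => 
    rw [dser_succ]
    infer_instance

/-- the derived series is compatible with intersections -/
theorem dser_inf_le (K L : Subgroup G) (n : ℕ) : dser (K ⊓ L) n ≤ dser K n ⊓ L :=
  le_inf (dser_mono inf_le_left n) ((dser_le _ n).trans inf_le_right)

/-- if `K` is generated modulo ... : quotient step: if `dser K a ≤ M` and `dser M b ≤ N` then `dser K (a+b) ≤ N` -/
theorem dser_add_le {K M N : Subgroup G} {a b : ℕ} (h1 : dser K a ≤ M) (h2 : dser M b ≤ N) :
    dser K (a + b) ≤ N := by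
  rw [← dser_dser]
  exact (dser_mono h1 b).trans h2

theorem dser_bot (n : ℕ) : dser (⊥ : Subgroup G) n = ⊥ := by
  rw [eq_bot_iff]
  exact dser_le _ n

theorem exists_dser_eq_bot [h : Group.IsSolvable G] (K : Subgroup G) : ∃ n, dser K n = ⊥ := by
  obtain ⟨n, hn⟩ := h.solvable
  refine ⟨n, ?_⟩
  rw [eq_bot_iff, ← hn, ← dser_top]
  exact dser_mono le_top n

/-- an abelian subgroup has trivial first derived subgroup -/
theorem dser_one_of_comm {K : Subgroup G} (h : ∀ a ∈ K, ∀ b ∈ K, a * b = b * a) : dser K 1 = ⊥ := by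
  rw [dser_succ, eq_bot_iff, commutator_le]
  intro a ha b hb
  rw [mem_bot, commutatorElement_eq_one_iff_mul_comm]
  exact h a ha b hb

section action

variable (G) {V : Type*} [AddCommGroup V] [DistribMulAction G V]

/-- the vector `v` has weight at most `d`: the `d`-th derived group of its stabiliser acts trivially -/
def Wtv (v : V) (d : ℕ) : Prop := ∀ g ∈ dser (MulAction.stabilizer G v) d, ∀ x : V, g • x = x

variable (V) in
/-- there are `n` pairwise inequivalent vectors of weight at most `d` -/
def Orb (n d : ℕ) : Prop :=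
  ∃ v : Fin n → V, (∀ i j, i ≠ j → ∀ g : G, g • v i ≠ v j) ∧ ∀ i, Wtv G (v i) d

variable {G}

theorem Wtv.mono {v : V} {d d' : ℕ} (h : Wtv G v d) (hd : d ≤ d') : Wtv G v d' :=
  fun g hg => h g (dser_anti _ hd hg)

theorem Orb.mono {n d n' d' : ℕ} (h : Orb G V n d) (hn : n' ≤ n) (hd : d ≤ d') : Orb G V n' d' := by
  obtain ⟨v, h1, h2⟩ := h
  refine ⟨fun i => v (Fin.castLE hn i), ?_, fun i => (h2 _).mono hd⟩
  intro i j hij
  exact h1 _ _ fun h => hij (Fin.castLE_injective hn h)

/-- transport of weights along a surjection of groups with the same action -/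
theorem Wtv.of_surjective {G' : Type*} [Group G'] [DistribMulAction G' V] {f : G →* G'}
    (hc : ∀ (g : G) (x : V), f g • x = g • x) {v : V} {d : ℕ} (h : Wtv G' v d) :
    Wtv G v d := by
  intro g hg x
  have h1 : f g ∈ dser ((MulAction.stabilizer G v).map f) d := by
    rw [← map_dser]
    exact ⟨g, hg, rfl⟩
  have h2 : (MulAction.stabilizer G v).map f ≤ MulAction.stabilizer G' v := by
    rintro _ ⟨k, hk, rfl⟩
    rw [MulAction.mem_stabilizer_iff, hc]
    exact hk
  rw [← hc]
  exact h _ (dser_mono h2 d h1) x

theorem Orb.of_surjective {G' : Type*} [Group G'] [DistribMulAction G' V] {f : G →* G'}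
    (hc : ∀ (g : G) (x : V), f g • x = g • x) {n d : ℕ} (h : Orb G' V n d) : Orb G V n d := by
  obtain ⟨v, h1, h2⟩ := h
  refine ⟨v, fun i j hij g => ?_, fun i => (h2 i).of_surjective hc⟩
  rw [← hc]
  exact h1 i j hij (f g)

end action

end Cfsg.Agent.H511.Wt
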