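import Mathlib
import Cfsg.Agent.H511.Wt.QP

/-!
# The group `E`
-/

set_option autoImplicit false
set_option linter.style.haveILetI false
set_option linter.unusedSectionVars false

namespace Cfsg.Agent.H511.Wt

open Subgroup
open scoped Pointwise commutatorElement

section cenMod

variable {G : Type*} [Group G]

/-- the elements commuting with `Y` modulo the normal subgroup `U` -/
def cenMod (U : Subgroup G) [U.Normal] (Y : Subgroup G) : Subgroup G :=
  (centralizer ((Y.map (QuotientGroup.mk' U) : Subgroup (G ⧸ U)) : Set (G ⧸ U))).comap (QuotientGroup.mk' U)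

theorem mem_cenMod {U : Subgroup G} [U.Normal] {Y : Subgroup G} {x : G} :
    x ∈ cenMod U Y ↔ ∀ y ∈ Y, ⁅x, y⁆ ∈ U := by
  rw [cenMod, mem_comap, mem_centralizer_iff]
  constructor
  · intro h y hy
    have h1 := h (QuotientGroup.mk' U y) ⟨y, hy, rfl⟩
    rw [← QuotientGroup.eq_one_iff]
    change QuotientGroup.mk' U ⁅x, y⁆ = 1
    rw [map_commutatorElement, commutatorElement_eq_one_iff_mul_comm]
    exact h1.symm
  · rintro h _ ⟨y, hy, rfl⟩
    have h1 := h y hy
    rw [← QuotientGroup.eq_one_iff] at h1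
    change QuotientGroup.mk' U ⁅x, y⁆ = 1 at h1
    rw [map_commutatorElement, commutatorElement_eq_one_iff_mul_comm] at h1
    exact h1.symm

theorem cenMod_comm {U : Subgroup G} [U.Normal] {X Y : Subgroup G} : X ≤ cenMod U Y ↔ Y ≤ cenMod U X := by
  have key : ∀ X Y : Subgroup G, X ≤ cenMod U Y → Y ≤ cenMod U X := by
    intro X Y h y hy
    rw [mem_cenMod]
    intro x hx
    have h1 := mem_cenMod.1 (h hx) y hy
    rw [← commutatorElement_inv]
    exact U.inv_mem h1
  exact ⟨key X Y, key Y X⟩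

theorem le_cenMod_iff {U : Subgroup G} [U.Normal] {X Y : Subgroup G} : X ≤ cenMod U Y ↔ ⁅X, Y⁆ ≤ U := by
  rw [commutator_le]
  constructor
  · intro h x hx
    exact mem_cenMod.1 (h hx)
  · intro h x hx
    exact mem_cenMod.2 (h x hx)

end cenMod

/-- a perfect subgroup of a solvable group is trivial -/
theorem eq_bot_of_perfect {G : Type*} [Group G] [Group.IsSolvable G] {K : Subgroup G} (h : K ≤ ⁅K, K⁆) : K = ⊥ := by
  have h0 : ⁅K, K⁆ = K := le_antisymm (commutator_self_le K) h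
  obtain ⟨n, hn⟩ := exists_dser_eq_bot K
  have h1 : ∀ n, dser K n = K := by
    intro n
    induction n with
    | zero => rfl
    | succ n ih => rw [dser_succ, ih, h0]
  rw [← h1 n, hn]

namespace QP

variable {K V G : Type*} [Field K] [Finite K] [AddCommGroup V] [Module K V] [Finite V] [Nontrivial V]
    [Group G] [Finite G] [DistribMulAction G V] (S : QP K V G)

instance instUNormal : S.U.Normal := S.U_normal

/-- the linear part -/
def A : Subgroup G := centralizer (S.U : Set G)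

instance instANormal : S.A.Normal := by
  have : (centralizer (S.U : Set G)).Normal := inferInstance
  exact this

theorem ι_injective : Function.Injective S.ι := by
  rw [injective_iff_map_eq_one]
  intro a ha
  apply Subtype.ext
  apply S.faithful
  intro v
  rw [S.ι_spec, ha, Units.val_one, one_smul]

theorem U_comm {a b : G} (ha : a ∈ S.U) (hb : b ∈ S.U) : a * b = b * a := by
  have h1 : S.ι (⟨a, ha⟩ * ⟨b, hb⟩) = S.ι (⟨b, hb⟩ * ⟨a, ha⟩) := by rw [map_mul, map_mul, mul_comm]
  exact congrArg Subtype.val (S.ι_injective h1)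

theorem U_le_A : S.U ≤ S.A := by
  intro a ha
  rw [A, mem_centralizer_iff]
  exact fun b hb => S.U_comm hb ha

/-- the minimal normal subgroups over `U` -/
def Mn : Set (Subgroup G) :=
  {N | N.Normal ∧ S.U < N ∧ N ≤ S.A ∧ ∀ N' : Subgroup G, N'.Normal → S.U < N' → N' ≤ N → N' = N}

/-- the socle modulo `U` -/
def E : Subgroup G := S.U ⊔ sSup S.Mn

theorem U_le_E : S.U ≤ S.E := le_sup_left

theorem Mn_le_E {N : Subgroup G} (hN : N ∈ S.Mn) : N ≤ S.E := (le_sSup hN).trans le_sup_right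

theorem E_le {X : Subgroup G} (h1 : S.U ≤ X) (h2 : ∀ N ∈ S.Mn, N ≤ X) : S.E ≤ X := sup_le h1 (sSup_le h2)

theorem E_le_A : S.E ≤ S.A := S.E_le S.U_le_A fun _ hN => hN.2.2.1

instance instENormal : S.E.Normal := by
  have h : (sSup S.Mn).Normal := by
    rw [sSup_eq_iSup']
    refine ⟨fun n hn g => ?_⟩
    have h1 : (⨆ N : S.Mn, (N : Subgroup G)).map (MulAut.conj g).toMonoidHom ≤ ⨆ N : S.Mn, (N : Subgroup G) := by
      rw [Subgroup.map_iSup]
      refine iSup_le fun N => ?_
      have h2 : (N : Subgroup G).map (MulAut.conj g).toMonoidHom ≤ N := by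
        rintro _ ⟨x, hx, rfl⟩
        exact N.2.1.conj_mem x hx g
      exact h2.trans (le_iSup (fun N : S.Mn => (N : Subgroup G)) N)
    exact h1 ⟨n, hn, rfl⟩
  rw [E]
  infer_instance

theorem exists_mn {C : Subgroup G} (hC : C.Normal) (hUC : S.U < C) (hCA : C ≤ S.A) : ∃ N ∈ S.Mn, N ≤ C := by
  obtain ⟨N, hN⟩ := (Set.toFinite {N : Subgroup G | N.Normal ∧ S.U < N ∧ N ≤ C}).exists_minimal
    ⟨C, hC, hUC, le_rfl⟩
  refine ⟨N, ⟨hN.prop.1, hN.prop.2.1, hN.prop.2.2.trans hCA, ?_⟩, hN.prop.2.2⟩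
  intro N' h1 h2 h3
  exact le_antisymm h3 (hN.le_of_le ⟨h1, h2, h3.trans hN.prop.2.2⟩ h3)

theorem mn_comm [Group.IsSolvable G] {N : Subgroup G} (hN : N ∈ S.Mn) : ⁅N, N⁆ ≤ S.U := by
  by_contra hle
  have hNn := hN.1
  have h1 : ⁅N, N⁆ ⊔ S.U = N := by
    apply hN.2.2.2
    · infer_instance
    · refine lt_of_le_of_ne le_sup_right ?_
      intro h
      exact hle (h ▸ le_sup_left)
    · exact sup_le (commutator_self_le N) hN.2.1.le
  have h2 : N.map (QuotientGroup.mk' S.U) = ⊥ := by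
    apply eq_bot_of_perfect
    conv_lhs => rw [← h1]
    rw [Subgroup.map_sup, map_commutator]
    refine sup_le le_rfl ?_
    rintro _ ⟨u, hu, rfl⟩
    have : QuotientGroup.mk' S.U u = 1 := (QuotientGroup.eq_one_iff u).2 hu
    rw [this]
    exact one_mem _
  rw [Subgroup.map_eq_bot_iff, QuotientGroup.ker_mk'] at h2
  exact hN.2.1.not_ge h2

theorem mn_comm_mn [Group.IsSolvable G] {N N' : Subgroup G} (hN : N ∈ S.Mn) (hN' : N' ∈ S.Mn) :
    ⁅N, N'⁆ ≤ S.U := by
  by_cases h : N = N'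
  · subst h
    exact S.mn_comm hN
  have hNn := hN.1
  have hNn' := hN'.1
  have h1 : ⁅N, N'⁆ ≤ N ⊓ N' := le_inf (commutator_le_left N N') (commutator_le_right N N')
  by_contra hle
  have h2 : S.U < N ⊓ N' := by
    refine lt_of_le_of_ne (le_inf hN.2.1.le hN'.2.1.le) ?_
    intro h3
    exact hle (h3 ▸ h1)
  have h3 := hN.2.2.2 (N ⊓ N') inferInstance h2 inf_le_left
  have h4 := hN'.2.2.2 (N ⊓ N') inferInstance h2 inf_le_right
  exact h (h3.symm.trans h4)

theorem A_comm_U {x u : G} (hx : x ∈ S.A) (hu : u ∈ S.U) : x * u = u * x := (mem_centralizer_iff.1 hx u hu).symm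

theorem U_le_cenMod {X : Subgroup G} (hX : X ≤ S.A) : S.U ≤ cenMod S.U X := by
  intro u hu
  rw [mem_cenMod]
  intro x hx
  have : ⁅u, x⁆ = 1 := by
    rw [commutatorElement_eq_one_iff_mul_comm]
    exact (S.A_comm_U (hX hx) hu).symm
  rw [this]
  exact S.U.one_mem

theorem E_comm [Group.IsSolvable G] : ⁅S.E, S.E⁆ ≤ S.U := by
  rw [← le_cenMod_iff]
  refine S.E_le (S.U_le_cenMod S.E_le_A) ?_
  intro N hN
  rw [cenMod_comm]
  refine S.E_le (S.U_le_cenMod hN.2.2.1) ?_
  intro N' hN'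
  rw [le_cenMod_iff]
  exact S.mn_comm_mn hN' hN

theorem centralizer_E [Group.IsSolvable G] : centralizer (S.E : Set G) = S.U := by
  apply le_antisymm
  · by_contra hle
    have hCn : (centralizer (S.E : Set G)).Normal := inferInstance
    have h1 : S.U < centralizer (S.E : Set G) ⊔ S.U := by
      refine lt_of_le_of_ne le_sup_right ?_
      intro h
      exact hle (h ▸ le_sup_left)
    have hCA : centralizer (S.E : Set G) ≤ S.A := centralizer_le S.U_le_E
    obtain ⟨N, hN, hNC⟩ := S.exists_mn inferInstance h1 (sup_le hCA S.U_le_A)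
    have h2 : centralizer (S.E : Set G) ⊔ S.U ≤ centralizer (N : Set G) := by
      refine sup_le (centralizer_le (S.Mn_le_E hN)) ?_
      intro u hu
      rw [mem_centralizer_iff]
      intro x hx
      exact S.A_comm_U (hN.2.2.1 hx) hu
    have h3 : N = S.U := by
      refine S.U_max N hN.1 hN.2.1.le ?_
      intro a ha b hb
      exact mem_centralizer_iff.1 (h2 (hNC hb)) a ha
    exact hN.2.1.ne h3.symm
  · intro u hu
    rw [mem_centralizer_iff]
    intro x hx
    exact S.A_comm_U (S.E_le_A hx) hu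

theorem comm_mem_U {x y : G} {X Y : Subgroup G} (h : ⁅X, Y⁆ ≤ S.U) (hx : x ∈ X) (hy : y ∈ Y) :
    x * y * x⁻¹ * y⁻¹ ∈ S.U := h (commutator_mem_commutator hx hy)

/-- elements of `A` acting trivially on `E / U` are in `E` -/
theorem cenMod_E_inf_A [Group.IsSolvable G] : cenMod S.U S.E ⊓ S.A = S.E := by
  classical
  set B := cenMod S.U S.E ⊓ S.A with hB
  have hEB : S.E ≤ B := le_inf (le_cenMod_iff.2 S.E_comm) S.E_le_A
  refine le_antisymm ?_ hEB
  have hBE : ⁅B, S.E⁆ ≤ S.U := le_cenMod_iff.1 inf_le_left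
  have h1 := Cfsg.Agent.H348.Trans.relIndex_centralizer_eq S.U B S.E S.ι S.ι_injective
    (fun x hx y hy => S.comm_mem_U hBE hx hy) (fun x hx a ha => S.A_comm_U hx.2 ha)
    (fun y hy a ha => S.A_comm_U (S.E_le_A hy) ha)
  rw [S.centralizer_E] at h1
  have h2 : S.U ≤ centralizer (B : Set G) := by
    intro u hu
    rw [mem_centralizer_iff]
    intro x hx
    exact S.A_comm_U hx.2 hu
  have h3 : (centralizer (B : Set G)).relIndex S.E ≤ S.U.relIndex S.E :=
    relIndex_le_of_le_left h2 (by rw [relIndex]; exact index_ne_zero_of_finite)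
  have h4 : S.U.relIndex S.E * S.E.relIndex B = S.U.relIndex B := relIndex_mul_relIndex _ _ _ S.U_le_E hEB
  have h5 : 0 < S.U.relIndex S.E := Nat.pos_of_ne_zero (by rw [relIndex]; exact index_ne_zero_of_finite)
  have h6 : S.U.relIndex S.E * S.E.relIndex B ≤ S.U.relIndex S.E * 1 := by
    rw [h4, h1, mul_one]
    exact h3
  have h7 : S.E.relIndex B ≤ 1 := Nat.le_of_mul_le_mul_left h6 h5
  have h8 : S.E.relIndex B ≠ 0 := by rw [relIndex]; exact index_ne_zero_of_finite
  rw [← relIndex_eq_one]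
  omega

/-- the order of `E / U` -/
noncomputable def s : ℕ := S.U.relIndex S.E

theorem s_pos : 0 < S.s := Nat.pos_of_ne_zero (by rw [s, relIndex]; exact index_ne_zero_of_finite)

theorem s_le : S.s ≤ Module.finrank K V ^ 2 ∨ ¬ Group.IsSolvable G := by
  by_cases hs : Group.IsSolvable G
  swap
  · exact Or.inr hs
  left
  have hlin : ∀ b : G, b ∈ S.E → S.σ b = 1 := by
    intro b hb
    have h1 := S.E_le_A hb
    rw [A, ← S.σ_ker] at h1
    exact h1
  let θ : S.E →* Module.End K V :=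
    { toFun := fun b =>
        { toFun := fun v => (b : G) • v
          map_add' := fun v w => smul_add (b : G) v w
          map_smul' := fun κ v => by
            rw [S.σ_spec, hlin b b.2]
            rfl }
      map_one' := by
        refine LinearMap.ext fun v => ?_
        exact one_smul G v
      map_mul' := fun b c => by
        refine LinearMap.ext fun v => ?_
        exact mul_smul (b : G) (c : G) v }
  let e := Subgroup.subgroupOfEquivOfLe S.U_le_E
  refine Cfsg.Agent.H348.Trans.index_le_sq θ (S.U.subgroupOf S.E) (S.ι.comp e.toMonoidHom)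
    (S.ι_injective.comp e.injective) ?_ ?_ ?_
  · intro a v
    exact S.ι_spec (e a) v
  · intro x y
    exact S.comm_mem_U S.E_comm x.2 y.2
  · intro a
    rw [Subgroup.mem_subgroupOf]
    constructor
    · intro ha c
      exact Subtype.ext (S.A_comm_U (S.E_le_A c.2) ha)
    · intro h
      rw [← S.centralizer_E, mem_centralizer_iff]
      intro c hc
      exact congrArg Subtype.val (h ⟨c, hc⟩)

theorem s_le' [hs : Group.IsSolvable G] : S.s ≤ Module.finrank K V ^ 2 := S.s_le.resolve_right fun h => h hs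

theorem exists_sq [Group.IsSolvable G] : ∃ e : ℕ, S.s = e ^ 2 :=
  Cfsg.Agent.H348.Trans.exists_sq S.U S.E S.U_le_E S.ι S.ι_injective
    (fun _ hx _ hy => S.comm_mem_U S.E_comm hx hy) (fun _ hx _ ha => S.A_comm_U (S.E_le_A hx) ha)
    (inf_le_right.trans S.centralizer_E.le)

theorem derived_le_A : commutator G ≤ S.A := by
  have hcyc : IsCyclic S.U := isCyclic_of_injective S.ι S.ι_injective
  have hcomm : ∀ a b : MulAut S.U, a * b = b * a := by
    intro a b
    apply (IsCyclic.mulAutMulEquiv S.U).injective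
    rw [map_mul, map_mul, mul_comm]
  rw [_root_.commutator_def, commutator_le]
  intro a _ b _
  have h1 : (MulAut.conjNormal : G →* MulAut S.U) ⁅a, b⁆ = 1 := by
    rw [map_commutatorElement, commutatorElement_eq_one_iff_mul_comm]
    exact hcomm _ _
  rw [A, mem_centralizer_iff]
  intro x hx
  have h2 := congrArg (fun f : MulAut S.U => ((f ⟨x, hx⟩ : S.U) : G)) h1
  have h3 : ⁅a, b⁆ * x * ⁅a, b⁆⁻¹ = x := h2
  calc x * ⁅a, b⁆ = (⁅a, b⁆ * x * ⁅a, b⁆⁻¹) * ⁅a, b⁆ := by rw [h3]
    _ = ⁅a, b⁆ * x := by group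

theorem dser_le_E [Group.IsSolvable G] {k : ℕ} (hk : 1 ≤ k) (h : ∀ N ∈ S.Mn, dser (⊤ : Subgroup G) k ≤ cenMod S.U N) :
    dser (⊤ : Subgroup G) k ≤ S.E := by
  have h1 : dser (⊤ : Subgroup G) k ≤ S.A := by
    refine (dser_anti _ hk).trans ?_
    exact S.derived_le_A
  rw [← S.cenMod_E_inf_A]
  refine le_inf ?_ h1
  rw [cenMod_comm]
  refine S.E_le (S.U_le_cenMod h1) ?_
  intro N hN
  rw [cenMod_comm]
  exact h N hN

theorem dser_E_two [Group.IsSolvable G] : dser S.E 2 = ⊥ := by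
  rw [eq_bot_iff]
  have h1 : dser S.E 1 ≤ S.U := S.E_comm
  have h2 : dser S.U 1 ≤ ⊥ := (dser_one_of_comm fun a ha b hb => S.U_comm ha hb).le
  exact dser_add_le h1 h2

theorem U_free {u : G} (hu : u ∈ S.U) (hu1 : u ≠ 1) {v : V} (h : u • v = v) : v = 0 := by
  have h1 := S.ι_spec ⟨u, hu⟩ v
  rw [h] at h1
  by_contra hv
  have h2 : ((S.ι ⟨u, hu⟩ : Kˣ) : K) - 1 = 0 := by
    have h3 : (((S.ι ⟨u, hu⟩ : Kˣ) : K) - 1) • v = 0 := by rw [sub_smul, one_smul, ← h1, sub_self]
    exact (smul_eq_zero.1 h3).resolve_right hv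
  have h4 : S.ι ⟨u, hu⟩ = 1 := Units.ext (sub_eq_zero.1 h2)
  rw [map_eq_one_iff _ S.ι_injective] at h4
  exact hu1 (congrArg Subtype.val h4)

theorem U_inf_stab {v : V} (hv : v ≠ 0) : S.U ⊓ MulAction.stabilizer G v = ⊥ := by
  rw [eq_bot_iff]
  rintro u ⟨hu, h⟩
  rw [mem_bot]
  by_contra hu1
  exact hv (S.U_free hu hu1 h)

/-- the weight of a nonzero vector -/
theorem wt_of_dser [Group.IsSolvable G] {k : ℕ} (hk : dser (⊤ : Subgroup G) k ≤ S.E) {v : V} (hv : v ≠ 0) :
    Wtv G v (k + 1) := by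
  set C := MulAction.stabilizer G v with hC
  have h1 : dser C k ≤ S.E ⊓ C := le_inf ((dser_mono le_top k).trans hk) (dser_le C k)
  have h2 : dser (S.E ⊓ C) 1 ≤ ⊥ := by
    rw [← S.U_inf_stab hv]
    exact le_inf ((dser_mono inf_le_left 1).trans S.E_comm) ((dser_le _ 1).trans inf_le_right)
  intro g hg x
  have h3 := dser_add_le h1 h2 hg
  rw [mem_bot] at h3
  rw [h3, one_smul]

theorem dser_top_eq_bot [Group.IsSolvable G] {k : ℕ} (hk : dser (⊤ : Subgroup G) k ≤ S.E) :
    dser (⊤ : Subgroup G) (k + 2) = ⊥ := by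
  rw [eq_bot_iff]
  exact dser_add_le hk S.dser_E_two.le

end QP

end Cfsg.Agent.H511.Wt
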