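import Mathlib
import Cfsg.Agent.H511.Wt.QPE

/-!
# Fixed points, primes and orders
-/

set_option autoImplicit false
set_option linter.style.haveILetI false
set_option linter.unusedSectionVars false

namespace Cfsg.Agent.H511.Wt

open Subgroup
open scoped Pointwise commutatorElement

section fx

variable {G V : Type*} [Group G] [AddCommGroup V] [DistribMulAction G V]

variable (V) in
/-- the fixed vectors of `x` -/
def fx (x : G) : AddSubgroup V where
  carrier := {v | x • v = v}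
  add_mem' := fun {a b} ha hb => by
    change x • (a + b) = a + b
    rw [smul_add]
    exact congrArg₂ _ ha hb
  zero_mem' := smul_zero x
  neg_mem' := fun {a} ha => by
    change x • (-a) = -a
    rw [smul_neg]
    exact congrArg _ ha

theorem mem_fx {x : G} {v : V} : v ∈ fx V x ↔ x • v = v := Iff.rfl

theorem card_fx_conj (x y : G) : Nat.card (fx V (y * x * y⁻¹)) = Nat.card (fx V x) := by
  refine Nat.card_congr ⟨fun v => ⟨y⁻¹ • (v : V), ?_⟩, fun v => ⟨y • (v : V), ?_⟩, ?_, ?_⟩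
  · have h := v.2
    rw [mem_fx] at h ⊢
    calc x • y⁻¹ • (v : V) = y⁻¹ • (y * x * y⁻¹) • (v : V) := by
          rw [← mul_smul, ← mul_smul]
          congr 1
          group
      _ = y⁻¹ • (v : V) := by rw [h]
  · have h := v.2
    rw [mem_fx] at h ⊢
    calc (y * x * y⁻¹) • y • (v : V) = y • x • (v : V) := by
          rw [← mul_smul, ← mul_smul]
          congr 1
          group
      _ = y • (v : V) := by rw [h]
  · intro v
    exact Subtype.ext (smul_inv_smul y (v : V))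
  · intro v
    exact Subtype.ext (inv_smul_smul y (v : V))

theorem card_mul_le [Finite V] (C D : AddSubgroup V) : Nat.card C * Nat.card D ≤ Nat.card V * Nat.card (C ⊓ D : AddSubgroup V) := by
  have h1 : Nat.card (C ⊓ D : AddSubgroup V) * D.relIndex C = Nat.card C := by
    rw [inf_comm]
    have h2 := AddSubgroup.card_mul_index (D.addSubgroupOf C)
    have h3 : Nat.card (D.addSubgroupOf C) = Nat.card (D ⊓ C : AddSubgroup V) := by
      rw [← AddSubgroup.inf_addSubgroupOf_right]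
      exact Nat.card_congr (AddSubgroup.addSubgroupOfEquivOfLe (inf_le_right : D ⊓ C ≤ C)).toEquiv
    rw [h3] at h2
    exact h2
  have h2 : D.relIndex C ≤ D.index := by
    refine Nat.le_of_dvd (Nat.pos_of_ne_zero AddSubgroup.index_ne_zero_of_finite) ?_
    exact AddSubgroup.relIndex_dvd_index_of_normal D C
  have h3 : Nat.card D * D.index = Nat.card V := AddSubgroup.card_mul_index D
  calc Nat.card C * Nat.card D = Nat.card (C ⊓ D : AddSubgroup V) * D.relIndex C * Nat.card D := by rw [h1]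
    _ ≤ Nat.card (C ⊓ D : AddSubgroup V) * D.index * Nat.card D :=
        Nat.mul_le_mul_right _ (Nat.mul_le_mul_left _ h2)
    _ = Nat.card V * Nat.card (C ⊓ D : AddSubgroup V) := by rw [← h3]; ring

theorem fx_inf_le (x y : G) : fx V x ⊓ fx V (y * x * y⁻¹) ≤ fx V (y * x * y⁻¹ * x⁻¹) := by
  rintro v ⟨h1, h2⟩
  have h1' : x • v = v := h1
  have h2' : (y * x * y⁻¹) • v = v := h2
  have h3 : x⁻¹ • v = v := by
    conv_lhs => rw [← h1']
    rw [inv_smul_smul]
  rw [mem_fx, mul_smul, h3, h2']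

theorem card_fx_sq_le [Finite V] (x y : G) :
    Nat.card (fx V x) ^ 2 ≤ Nat.card V * Nat.card (fx V (y * x * y⁻¹ * x⁻¹)) := by
  have h1 := card_mul_le (fx V x) (fx V (y * x * y⁻¹))
  rw [card_fx_conj] at h1
  rw [sq]
  refine h1.trans (Nat.mul_le_mul_left _ ?_)
  exact AddSubgroup.card_le_of_le (fx_inf_le x y)

end fx

namespace QP

variable {K V G : Type*} [Field K] [Finite K] [AddCommGroup V] [Module K V] [Finite V] [Nontrivial V]
    [Group G] [Finite G] [DistribMulAction G V] (S : QP K V G)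

theorem fx_U {u : G} (hu : u ∈ S.U) (hu1 : u ≠ 1) : Nat.card (fx V u) = 1 := by
  rw [Nat.card_eq_one_iff_unique]
  refine ⟨⟨fun a b => ?_⟩, ⟨0⟩⟩
  have h1 : ∀ a : fx V u, a = 0 := fun a => Subtype.ext (S.U_free hu hu1 a.2)
  rw [h1 a, h1 b]

theorem fx_E [Group.IsSolvable G] {x : G} (hx : x ∈ S.E) (hxU : x ∉ S.U) : Nat.card (fx V x) ^ 2 ≤ Nat.card V := by
  have h1 : x ∉ centralizer (S.E : Set G) := by rwa [S.centralizer_E]
  rw [mem_centralizer_iff] at h1
  push Not at h1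
  obtain ⟨y, hy, hxy⟩ := h1
  have h2 : y * x * y⁻¹ * x⁻¹ ∈ S.U := S.comm_mem_U S.E_comm hy hx
  have h3 : y * x * y⁻¹ * x⁻¹ ≠ 1 := by
    rw [Ne, mul_inv_eq_one, mul_inv_eq_iff_eq_mul]
    exact hxy
  have h4 := card_fx_sq_le (V := V) x y
  rwa [S.fx_U h2 h3, mul_one] at h4

theorem fx_A [Group.IsSolvable G] {x : G} (hx : x ∈ S.A) (hxE : x ∉ S.E) :
    Nat.card (fx V x) ^ 4 ≤ Nat.card V ^ 3 := by
  have h1 : x ∉ cenMod S.U S.E := fun h => hxE (S.cenMod_E_inf_A ▸ ⟨h, hx⟩)
  rw [mem_cenMod] at h1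
  push Not at h1
  obtain ⟨y, hy, hxy⟩ := h1
  have h2 : y * x * y⁻¹ * x⁻¹ ∈ S.E := by
    have h3 : x * y⁻¹ * x⁻¹ ∈ S.E := S.instENormal.conj_mem _ (S.E.inv_mem hy) x
    have h4 : y * x * y⁻¹ * x⁻¹ = y * (x * y⁻¹ * x⁻¹) := by group
    rw [h4]
    exact S.E.mul_mem hy h3
  have h3 : y * x * y⁻¹ * x⁻¹ ∉ S.U := by
    intro h
    apply hxy
    rw [← commutatorElement_inv]
    exact S.U.inv_mem h
  have h4 := card_fx_sq_le (V := V) x y
  have h5 := S.fx_E h2 h3
  calc Nat.card (fx V x) ^ 4 = (Nat.card (fx V x) ^ 2) ^ 2 := by rw [← pow_mul]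
    _ ≤ (Nat.card V * Nat.card (fx V (y * x * y⁻¹ * x⁻¹))) ^ 2 := Nat.pow_le_pow_left h4 2
    _ = Nat.card V ^ 2 * Nat.card (fx V (y * x * y⁻¹ * x⁻¹)) ^ 2 := by rw [mul_pow]
    _ ≤ Nat.card V ^ 2 * Nat.card V := Nat.mul_le_mul_left _ h5
    _ = Nat.card V ^ 3 := by ring

theorem fx_G {x : G} (hx : x ∉ S.A) : Nat.card (fx V x) ^ 2 ≤ Nat.card V := by
  rw [A, mem_centralizer_iff] at hx
  push Not at hx
  obtain ⟨y, hy, hxy⟩ := hx
  have h2 : y * x * y⁻¹ * x⁻¹ ∈ S.U := by
    have h3 : x * y⁻¹ * x⁻¹ ∈ S.U := S.U_normal.conj_mem _ (S.U.inv_mem hy) x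
    have h4 : y * x * y⁻¹ * x⁻¹ = y * (x * y⁻¹ * x⁻¹) := by group
    rw [h4]
    exact S.U.mul_mem hy h3
  have h3 : y * x * y⁻¹ * x⁻¹ ≠ 1 := by
    rw [Ne, mul_inv_eq_one, mul_inv_eq_iff_eq_mul]
    exact hxy
  have h4 := card_fx_sq_le (V := V) x y
  rwa [S.fx_U h2 h3, mul_one] at h4

include S in
/-- fixed points of arbitrary elements -/
theorem fx_le [Group.IsSolvable G] {x : G} (hx : x ≠ 1) : Nat.card (fx V x) ^ 4 ≤ Nat.card V ^ 3 := by
  have hpos : 0 < Nat.card V := Nat.card_pos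
  have key : Nat.card (fx V x) ^ 2 ≤ Nat.card V → Nat.card (fx V x) ^ 4 ≤ Nat.card V ^ 3 := by
    intro h
    calc Nat.card (fx V x) ^ 4 = (Nat.card (fx V x) ^ 2) ^ 2 := by rw [← pow_mul]
      _ ≤ Nat.card V ^ 2 := Nat.pow_le_pow_left h 2
      _ ≤ Nat.card V ^ 3 := Nat.pow_le_pow_right hpos (by norm_num)
  by_cases hA : x ∈ S.A
  · by_cases hE : x ∈ S.E
    · by_cases hU : x ∈ S.U
      · rw [S.fx_U hU hx, one_pow]
        exact Nat.one_le_pow _ _ hpos
      · exact key (S.fx_E hE hU)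
    · exact S.fx_A hA hE
  · exact key (S.fx_G hA)

/-- the linear action of `A` -/
def θ : S.A →* Module.End K V where
  toFun b :=
    { toFun := fun v => (b : G) • v
      map_add' := fun v w => smul_add (b : G) v w
      map_smul' := fun κ v => by
        have h : S.σ b = 1 := by
          have h1 : (b : G) ∈ centralizer (S.U : Set G) := b.2
          rw [← S.σ_ker] at h1
          exact h1
        rw [S.σ_spec, h]
        rfl }
  map_one' := by
    refine LinearMap.ext fun v => ?_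
    exact one_smul G v
  map_mul' := fun b c => by
    refine LinearMap.ext fun v => ?_
    exact mul_smul (b : G) (c : G) v

theorem θ_apply (a : S.A) (v : V) : S.θ a v = (a : G) • v := rfl

/-- the primes dividing `|E/U|` divide `|U|` and the dimension. -/
theorem prime_dvd [Group.IsSolvable G] {r : ℕ} (hr : r.Prime) (hs : r ∣ S.s) :
    r ∣ Nat.card S.U ∧ r ∣ Module.finrank K V := by
  have hrf : Fact r.Prime := ⟨hr⟩
  have h1 : r ∣ Nat.card (S.E ⧸ S.U.subgroupOf S.E) := hs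
  obtain ⟨x', hx'⟩ := exists_prime_orderOf_dvd_card' r h1
  obtain ⟨x, rfl⟩ := QuotientGroup.mk_surjective x'
  have hxU : (x : G) ∉ S.U := by
    intro h
    have h2 : ((x : S.E) : S.E ⧸ S.U.subgroupOf S.E) = 1 := (QuotientGroup.eq_one_iff x).2 h
    rw [h2, orderOf_one] at hx'
    exact hr.one_lt.ne hx'
  have hxr : (x : G) ^ r ∈ S.U := by
    have h2 := pow_orderOf_eq_one ((x : S.E) : S.E ⧸ S.U.subgroupOf S.E)
    rw [hx', ← QuotientGroup.mk_pow, QuotientGroup.eq_one_iff] at h2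
    exact h2
  have h2 : (x : G) ∉ centralizer (S.E : Set G) := by rwa [S.centralizer_E]
  rw [mem_centralizer_iff] at h2
  push Not at h2
  obtain ⟨y, hy, hxy⟩ := h2
  set u := y * x * y⁻¹ * (x : G)⁻¹ with hu
  have huU : u ∈ S.U := S.comm_mem_U S.E_comm hy x.2
  have hu1 : u ≠ 1 := by
    rw [hu, Ne, mul_inv_eq_one, mul_inv_eq_iff_eq_mul]
    exact hxy
  have hconj : y * x * y⁻¹ = u * x := by rw [hu]; group
  have hur : u ^ r = 1 := by
    have h3 : Commute u x := (S.A_comm_U (S.E_le_A x.2) huU).symm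
    have h4 : (y * x * y⁻¹) ^ r = u ^ r * x ^ r := by rw [hconj, h3.mul_pow]
    rw [conj_pow, S.A_comm_U (S.E_le_A hy) hxr, mul_inv_cancel_right] at h4
    exact (mul_eq_right.1 h4.symm)
  have huo : orderOf (⟨u, huU⟩ : S.U) = r := orderOf_eq_prime (Subtype.ext hur) fun h => hu1 (congrArg Subtype.val h)
  refine ⟨?_, ?_⟩
  · rw [← huo]
    exact _root_.orderOf_dvd_natCard _
  · -- determinants
    let xa : S.A := ⟨x, S.E_le_A x.2⟩
    let ya : S.A := ⟨y, S.E_le_A hy⟩
    have h3 : S.θ (ya * xa * ya⁻¹) = ((S.ι ⟨u, huU⟩ : Kˣ) : K) • S.θ xa := by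
      refine LinearMap.ext fun v => ?_
      change (y * x * y⁻¹) • v = ((S.ι ⟨u, huU⟩ : Kˣ) : K) • (x : G) • v
      rw [hconj, mul_smul, ← S.ι_spec]
    have h4 := congrArg LinearMap.det h3
    rw [map_mul, map_mul, map_mul, map_mul, LinearMap.det_smul] at h4
    have h5 : LinearMap.det (S.θ ya) * LinearMap.det (S.θ ya⁻¹) = 1 := by
      rw [← map_mul, ← map_mul, mul_inv_cancel, map_one, map_one]
    have h6 : LinearMap.det (S.θ xa) ≠ 0 := by
      have h7 : LinearMap.det (S.θ xa) * LinearMap.det (S.θ xa⁻¹) = 1 := by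
        rw [← map_mul, ← map_mul, mul_inv_cancel, map_one, map_one]
      exact left_ne_zero_of_mul_eq_one h7
    have h7 : ((S.ι ⟨u, huU⟩ : Kˣ) : K) ^ Module.finrank K V = 1 := by
      have h8 : LinearMap.det (S.θ xa) = ((S.ι ⟨u, huU⟩ : Kˣ) : K) ^ Module.finrank K V * LinearMap.det (S.θ xa) := by
        rw [← h4]
        calc LinearMap.det (S.θ xa) = LinearMap.det (S.θ xa) * 1 := (mul_one _).symm
          _ = LinearMap.det (S.θ xa) * (LinearMap.det (S.θ ya) * LinearMap.det (S.θ ya⁻¹)) := by rw [h5]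
          _ = _ := by ring
      exact (mul_eq_right₀ h6).1 h8.symm
    have h8 : (S.ι ⟨u, huU⟩) ^ Module.finrank K V = 1 := by
      apply Units.ext
      rw [Units.val_pow_eq_pow_val, h7, Units.val_one]
    rw [← map_pow, map_eq_one_iff _ S.ι_injective] at h8
    rw [← huo]
    exact orderOf_dvd_of_pow_eq_one h8

theorem card_U_dvd : Nat.card S.U ∣ Nat.card K - 1 := by
  rw [← Nat.card_units]
  exact Subgroup.card_dvd_of_injective _ S.ι_injective

theorem card_V_eq : Nat.card V = Nat.card K ^ Module.finrank K V :=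
  Module.natCard_eq_pow_finrank (K := K) (V := V)

theorem card_G_eq : Nat.card G = Nat.card S.U * S.s * S.E.relIndex S.A * S.A.index := by
  have h1 : Nat.card S.U * S.s = Nat.card S.E := by
    have h2 := card_mul_index (S.U.subgroupOf S.E)
    rwa [Nat.card_congr (subgroupOfEquivOfLe S.U_le_E).toEquiv] at h2
  have h2 : Nat.card S.E * S.E.relIndex S.A = Nat.card S.A := by
    have h2 := card_mul_index (S.E.subgroupOf S.A)
    rwa [Nat.card_congr (subgroupOfEquivOfLe S.E_le_A).toEquiv] at h2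
  rw [h1, h2, card_mul_index]

end QP

end Cfsg.Agent.H511.Wt
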