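import Mathlib
import Cfsg.Agent.H511.Wt.QPF

/-!
# The bound for `A / E`
-/

set_option autoImplicit false
set_option linter.style.haveILetI false
set_option linter.unusedSectionVars false

namespace Cfsg.Agent.H511.Wt

open Subgroup
open scoped Pointwise commutatorElement

/-- number of prime factors with multiplicity -/
def om (n : ℕ) : ℕ := n.primeFactorsList.length

theorem om_mul {m n : ℕ} (hm : m ≠ 0) (hn : n ≠ 0) : om (m * n) = om m + om n := by
  unfold om
  rw [(Nat.perm_primeFactorsList_mul hm hn).length_eq, List.length_append]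

theorem om_prime {p : ℕ} (hp : p.Prime) : om p = 1 := by
  unfold om
  rw [Nat.primeFactorsList_prime hp]
  rfl

/-- the largest prime factor -/
theorem exists_max_prime {n : ℕ} (hn : 1 < n) : ∃ r : ℕ, r.Prime ∧ r ∣ n ∧ n ≤ r ^ om n := by
  classical
  have hne : n.primeFactors.Nonempty := Nat.nonempty_primeFactors.2 hn
  obtain ⟨r, hr, hmax⟩ := n.primeFactors.exists_max_image id hne
  refine ⟨r, Nat.prime_of_mem_primeFactors hr, Nat.dvd_of_mem_primeFactors hr, ?_⟩
  conv_lhs => rw [← Nat.prod_primeFactorsList (show n ≠ 0 by omega)]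
  apply List.prod_le_pow_card
  intro x hx
  exact hmax x (by rwa [Nat.mem_primeFactors_iff_mem_primeFactorsList])

/-- the arithmetic of one step -/
theorem step_arith {n r k N N' : ℕ} (hr : r ≠ 0) (hn : n = r * k) (hle : n ≤ r ^ (om k + 1))
    (h1 : N ≤ n * N') (h2 : N' ^ 2 ≤ k ^ (om k + 1)) : N ^ 2 ≤ n ^ (om k + 1 + 1) := by
  have hr' : 0 < r ^ (om k + 1) := pow_pos (Nat.pos_of_ne_zero hr) _
  apply Nat.le_of_mul_le_mul_left _ hr'
  calc r ^ (om k + 1) * N ^ 2 ≤ r ^ (om k + 1) * (n * N') ^ 2 := Nat.mul_le_mul_left _ (Nat.pow_le_pow_left h1 2)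
    _ = n ^ 2 * (r ^ (om k + 1) * N' ^ 2) := by ring
    _ ≤ n ^ 2 * (r ^ (om k + 1) * k ^ (om k + 1)) := Nat.mul_le_mul_left _ (Nat.mul_le_mul_left _ h2)
    _ = n ^ 2 * n ^ (om k + 1) := by rw [← mul_pow, ← hn]
    _ = n * n ^ (om k + 1 + 1) := by ring
    _ ≤ r ^ (om k + 1) * n ^ (om k + 1 + 1) := Nat.mul_le_mul_right _ hle

namespace QP

variable {K V G : Type*} [Field K] [Finite K] [AddCommGroup V] [Module K V] [Finite V] [Nontrivial V]
    [Group G] [Finite G] [DistribMulAction G V] (S : QP K V G)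

/-- the elements of `A` acting trivially on `X / U` -/
def AX (X : Subgroup G) : Subgroup G := cenMod S.U X ⊓ S.A

theorem AX_anti {X Y : Subgroup G} (h : X ≤ Y) : S.AX Y ≤ S.AX X := by
  refine inf_le_inf_right _ ?_
  intro a ha
  rw [mem_cenMod] at ha ⊢
  exact fun y hy => ha y (h hy)

theorem E_le_AX [Group.IsSolvable G] {X : Subgroup G} (hX : X ≤ S.E) : S.E ≤ S.AX X := by
  refine le_inf ?_ S.E_le_A
  refine le_trans (le_cenMod_iff.2 S.E_comm) ?_
  intro a ha
  rw [mem_cenMod] at ha ⊢
  exact fun y hy => ha y (hX hy)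

theorem relIndex_ne_zero' (X Y : Subgroup G) : X.relIndex Y ≠ 0 := by
  rw [relIndex]; exact index_ne_zero_of_finite

/-- duality -/
theorem relIndex_dual [Group.IsSolvable G] {X : Subgroup G} (hU : S.U ≤ X) (hX : X ≤ S.E) :
    S.U.relIndex (S.E ⊓ centralizer (X : Set G)) = X.relIndex S.E := by
  have h1 := Cfsg.Agent.H348.Trans.relIndex_centralizer_eq S.U S.E X S.ι S.ι_injective
    (fun x hx y hy => S.comm_mem_U S.E_comm hx (hX hy)) (fun x hx a ha => S.A_comm_U (S.E_le_A hx) ha)
    (fun y hy a ha => S.A_comm_U (S.E_le_A (hX hy)) ha)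
  rw [S.centralizer_E] at h1
  have hUD : S.U ≤ S.E ⊓ centralizer (X : Set G) := by
    refine le_inf S.U_le_E ?_
    rw [← S.centralizer_E]
    exact centralizer_le hX
  have h2 : S.U.relIndex (S.E ⊓ centralizer (X : Set G)) * (S.E ⊓ centralizer (X : Set G)).relIndex S.E =
      S.U.relIndex S.E := relIndex_mul_relIndex _ _ _ hUD inf_le_left
  have h3 : S.U.relIndex X * X.relIndex S.E = S.U.relIndex S.E := relIndex_mul_relIndex _ _ _ hU hX
  have h4 : (S.E ⊓ centralizer (X : Set G)).relIndex S.E = S.U.relIndex X := by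
    rw [inf_comm, inf_relIndex_right, h1]
  rw [h4] at h2
  have h5 : 0 < S.U.relIndex X := Nat.pos_of_ne_zero (relIndex_ne_zero' _ _)
  apply Nat.eq_of_mul_eq_mul_left h5
  rw [h3, ← h2, mul_comm]

theorem comm_aux {x y a : G} (hx : x ∈ S.E) (_hy : y ∈ S.E) (ha : a ∈ S.A)
    (h1 : ⁅a, y⁆ ∈ S.U) (h2 : ⁅x, y⁆ ∈ S.U) : y * (x⁻¹ * (a * x * a⁻¹)) = (x⁻¹ * (a * x * a⁻¹)) * y := by
  set u := ⁅a, y⁆ with hu
  set w := ⁅x, y⁆ with hw
  have hay : a * y * a⁻¹ = u * y := by rw [hu, commutatorElement_def]; group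
  have hxy : x * y = w * y * x := by rw [hw, commutatorElement_def]; group
  have hx' : a * x * a⁻¹ ∈ S.E := S.instENormal.conj_mem x hx a
  -- commutations with `U`
  have c1 : ∀ z ∈ S.E, ∀ v ∈ S.U, z * v = v * z := fun z hz v hv => S.A_comm_U (S.E_le_A hz) hv
  have c2 : ∀ v ∈ S.U, a * v = v * a := fun v hv => S.A_comm_U ha hv
  set X := a * x * a⁻¹ with hX
  have h3 : X * (u * y) = w * (u * y) * X := by
    rw [← hay, hX]
    calc a * x * a⁻¹ * (a * y * a⁻¹) = a * (x * y) * a⁻¹ := by group
      _ = a * (w * y * x) * a⁻¹ := by rw [hxy]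
      _ = (a * w) * y * x * a⁻¹ := by group
      _ = (w * a) * y * x * a⁻¹ := by rw [c2 w h2]
      _ = w * (a * y * a⁻¹) * (a * x * a⁻¹) := by group
  have h4 : X * y = w * y * X := by
    have h5 : u * (X * y) = u * (w * y * X) := by
      calc u * (X * y) = (u * X) * y := by group
        _ = (X * u) * y := by rw [c1 X hx' u h1]
        _ = X * (u * y) := by group
        _ = w * (u * y) * X := h3
        _ = (w * u) * y * X := by group
        _ = (u * w) * y * X := by rw [S.U_comm h2 h1]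
        _ = u * (w * y * X) := by group
    exact mul_left_cancel h5
  have h5 : x⁻¹ * (w * y) = y * x⁻¹ := by
    calc x⁻¹ * (w * y) = x⁻¹ * (w * y * x) * x⁻¹ := by group
      _ = x⁻¹ * (x * y) * x⁻¹ := by rw [hxy]
      _ = y * x⁻¹ := by group
  calc y * (x⁻¹ * X) = (y * x⁻¹) * X := by group
    _ = (x⁻¹ * (w * y)) * X := by rw [h5]
    _ = x⁻¹ * (w * y * X) := by group
    _ = x⁻¹ * (X * y) := by rw [h4]
    _ = x⁻¹ * X * y := by group

/-- the index of one step -/
theorem relIndex_step [Group.IsSolvable G] {X : Subgroup G} (hU : S.U ≤ X) (hX : X ≤ S.E) {x : G} (hx : x ∈ S.E) :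
    (S.AX (X ⊔ zpowers x)).relIndex (S.AX X) ≤ X.relIndex S.E := by
  classical
  rw [← S.relIndex_dual hU hX]
  set D := S.E ⊓ centralizer (X : Set G) with hD
  have h1 : S.U.relIndex D = Nat.card (D.map (QuotientGroup.mk' S.U)) := by
    rw [← relIndex_ker, QuotientGroup.ker_mk']
  rw [h1]
  have hfD : ∀ a : S.AX X, x⁻¹ * (a * x * (a : G)⁻¹) ∈ D := by
    intro a
    refine mem_inf.2 ⟨S.E.mul_mem (S.E.inv_mem hx) (S.instENormal.conj_mem x hx a), ?_⟩
    rw [mem_centralizer_iff]
    intro y hy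
    exact S.comm_aux hx (hX hy) a.2.2 (mem_cenMod.1 a.2.1 y hy)
      (S.E_comm (commutator_mem_commutator hx (hX hy)))
  let f : S.AX X → (D.map (QuotientGroup.mk' S.U)) := fun a =>
    ⟨QuotientGroup.mk' S.U (x⁻¹ * (a * x * (a : G)⁻¹)), ⟨_, hfD a, rfl⟩⟩
  have hf : ∀ a b : S.AX X, f a = f b → (a : G)⁻¹ * b ∈ S.AX (X ⊔ zpowers x) := by
    intro a b hab
    have h2 : QuotientGroup.mk' S.U (x⁻¹ * (a * x * (a : G)⁻¹)) = QuotientGroup.mk' S.U (x⁻¹ * (b * x * (b : G)⁻¹)) :=
      congrArg Subtype.val hab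
    have h3 : ((x⁻¹ * (a * x * (a : G)⁻¹) : G) : G ⧸ S.U) = ((x⁻¹ * (b * x * (b : G)⁻¹) : G) : G ⧸ S.U) := h2
    rw [QuotientGroup.eq] at h3
    have h4 : (x⁻¹ * (a * x * (a : G)⁻¹))⁻¹ * (x⁻¹ * (b * x * (b : G)⁻¹)) =
        (a : G) * x⁻¹ * (a : G)⁻¹ * (b * x * (b : G)⁻¹) := by group
    rw [h4] at h3
    refine ⟨?_, (S.AX X).mul_mem ((S.AX X).inv_mem a.2) b.2 |>.2⟩
    -- it centralises x mod U
    have h5 : ⁅(a : G)⁻¹ * b, x⁆ ∈ S.U := by
      have h6 : ⁅(a : G)⁻¹ * b, x⁆ = x * ((a : G)⁻¹ * ((a : G) * x⁻¹ * (a : G)⁻¹ * (b * x * (b : G)⁻¹)) * ((a : G)⁻¹)⁻¹) * x⁻¹ := by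
        rw [commutatorElement_def]; group
      rw [h6]
      exact S.U_normal.conj_mem _ (S.U_normal.conj_mem _ h3 _) _
    have h7 : X ⊔ zpowers x ≤ cenMod S.U (zpowers ((a : G)⁻¹ * b)) := by
      refine sup_le ?_ ?_
      · rw [cenMod_comm, zpowers_le]
        exact ((S.AX X).mul_mem ((S.AX X).inv_mem a.2) b.2).1
      · rw [cenMod_comm, zpowers_le, mem_cenMod]
        intro y hy
        have h8 : zpowers x ≤ cenMod S.U (zpowers ((a : G)⁻¹ * b)) := by
          rw [zpowers_le, mem_cenMod]
          intro z hz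
          have h9 : zpowers ((a : G)⁻¹ * b) ≤ cenMod S.U (zpowers x) := by
            rw [zpowers_le]
            have h10 : x ∈ cenMod S.U (zpowers ((a : G)⁻¹ * b)) := by
              have h11 : zpowers ((a : G)⁻¹ * b) ≤
                  (centralizer ({QuotientGroup.mk' S.U x} : Set (G ⧸ S.U))).comap (QuotientGroup.mk' S.U) := by
                rw [zpowers_le, mem_comap, mem_centralizer_iff]
                intro y hy
                rw [Set.mem_singleton_iff] at hy
                rw [hy]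
                have h12 : QuotientGroup.mk' S.U ⁅(a : G)⁻¹ * b, x⁆ = 1 := (QuotientGroup.eq_one_iff _).2 h5
                rw [map_commutatorElement, commutatorElement_eq_one_iff_mul_comm] at h12
                exact h12.symm
              rw [mem_cenMod]
              intro z hz
              have h12 := h11 hz
              rw [mem_comap, mem_centralizer_iff] at h12
              have h13 := h12 _ rfl
              rw [← QuotientGroup.eq_one_iff]
              change QuotientGroup.mk' S.U ⁅x, z⁆ = 1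
              rw [map_commutatorElement, commutatorElement_eq_one_iff_mul_comm]
              exact h13
            have h14 : zpowers x ≤ cenMod S.U (zpowers ((a : G)⁻¹ * b)) := by
              rw [zpowers_le]; exact h10
            rw [cenMod_comm, zpowers_le] at h14
            exact h14
          have h15 := mem_cenMod.1 (h9 hz) x (mem_zpowers x)
          rw [← commutatorElement_inv]
          exact S.U.inv_mem h15
        rw [cenMod_comm, zpowers_le] at h8
        exact mem_cenMod.1 h8 y hy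
    rw [cenMod_comm, zpowers_le] at h7
    exact h7
  -- injection from the quotient
  rw [relIndex, index]
  refine Nat.card_le_card_of_injective (fun q : S.AX X ⧸ (S.AX (X ⊔ zpowers x)).subgroupOf (S.AX X) => f q.out) ?_
  intro q q' h
  have h2 := hf _ _ h
  rw [← QuotientGroup.out_eq' q, ← QuotientGroup.out_eq' q', QuotientGroup.eq]
  exact h2

/-- **The chain bound.** -/
theorem chain [Group.IsSolvable G] : ∀ (n : ℕ) (X : Subgroup G), S.U ≤ X → X ≤ S.E → X.relIndex S.E = n →
    (S.E.relIndex (S.AX X)) ^ 2 ≤ n ^ (om n + 1) := by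
  intro n
  induction n using Nat.strong_induction_on with
  | _ n ih =>
    intro X hU hX hn
    have hn0 : n ≠ 0 := by rw [← hn]; exact relIndex_ne_zero' _ _
    by_cases h1 : n = 1
    · have h2 : X = S.E := by
        rw [h1, relIndex_eq_one] at hn
        exact le_antisymm hX hn
      have h3 : S.AX X = S.E := by rw [h2]; exact S.cenMod_E_inf_A
      rw [h3, relIndex_self, h1, one_pow, one_pow]
    · obtain ⟨r, hr, hrn, hle⟩ := exists_max_prime (show 1 < n by omega)
      have hrf : Fact r.Prime := ⟨hr⟩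
      obtain ⟨k, hk⟩ := hrn
      have hk0 : k ≠ 0 := by rintro rfl; rw [mul_zero] at hk; exact hn0 hk
      have hom : om n = om k + 1 := by rw [hk, om_mul hr.ne_zero hk0, om_prime hr, add_comm]
      -- an element of order `r` modulo `X`
      set X₁ := X.subgroupOf S.E with hX₁
      have hX₁n : X₁.Normal := by
        refine ⟨fun y hy g => ?_⟩
        rw [hX₁, mem_subgroupOf] at hy ⊢
        have h2 : ((g * y * g⁻¹ : S.E) : G) = ⁅(g : G), (y : G)⁆ * y := by
          rw [commutatorElement_def]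
          push_cast
          group
        rw [h2]
        exact X.mul_mem (hU (S.E_comm (commutator_mem_commutator g.2 y.2))) hy
      have hi : X₁.index = n := hn
      have h2 : r ∣ Nat.card (S.E ⧸ X₁) := by
        rw [← index_eq_card, hi, hk]
        exact dvd_mul_right r k
      obtain ⟨x', hx'⟩ := exists_prime_orderOf_dvd_card' r h2
      obtain ⟨x, rfl⟩ := QuotientGroup.mk_surjective x'
      have h3 : X₁.relIndex (X₁ ⊔ zpowers x) = r := by
        rw [relIndex_sup_left]
        have h4 := relIndex_ker (zpowers x) (QuotientGroup.mk' X₁)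
        rw [QuotientGroup.ker_mk', MonoidHom.map_zpowers, Nat.card_zpowers] at h4
        rw [h4]
        exact hx'
      have h4 : X₁.relIndex (X₁ ⊔ zpowers x) * (X₁ ⊔ zpowers x).index = X₁.index := relIndex_mul_index le_sup_left
      rw [h3, hi, hk] at h4
      have h5 : (X₁ ⊔ zpowers x).index = k := Nat.eq_of_mul_eq_mul_left hr.pos h4
      set X' : Subgroup G := X ⊔ zpowers (x : G) with hX'
      have hX'E : X' ≤ S.E := sup_le hX (by rw [zpowers_le]; exact x.2)
      have h6 : X'.relIndex S.E = k := by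
        have h7 : X'.subgroupOf S.E = X₁ ⊔ zpowers x := by
          have h8 : (X₁ ⊔ zpowers x).map S.E.subtype = X' := by
            rw [Subgroup.map_sup, MonoidHom.map_zpowers, hX₁, map_subgroupOf_eq_of_le hX]
            rfl
          rw [← h8, subgroupOf, comap_map_eq_self_of_injective S.E.subtype_injective]
        rw [relIndex, h7, h5]
      have hkn : k < n := by
        rw [hk]
        calc k = 1 * k := (one_mul k).symm
          _ < r * k := Nat.mul_lt_mul_of_pos_right hr.one_lt (Nat.pos_of_ne_zero hk0)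
      have h7 := ih k hkn X' (hU.trans le_sup_left) hX'E h6
      have h8 := S.relIndex_step hU hX x.2
      rw [hn] at h8
      have h9 : S.E.relIndex (S.AX X') * (S.AX X').relIndex (S.AX X) = S.E.relIndex (S.AX X) :=
        relIndex_mul_relIndex _ _ _ (S.E_le_AX hX'E) (S.AX_anti le_sup_left)
      rw [hom]
      rw [hom] at hle
      refine step_arith hr.ne_zero hk hle ?_ h7
      rw [← h9, mul_comm]
      exact Nat.mul_le_mul_right _ h8

theorem relIndex_E_A [Group.IsSolvable G] : (S.E.relIndex S.A) ^ 2 ≤ S.s ^ (om S.s + 1) := by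
  have h1 := S.chain S.s S.U le_rfl S.U_le_E rfl
  have h2 : S.AX S.U = S.A := by
    apply le_antisymm inf_le_right
    refine le_inf ?_ le_rfl
    rw [cenMod_comm]
    exact S.U_le_cenMod le_rfl
  rwa [h2] at h1

end QP

end Cfsg.Agent.H511.Wt
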