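import Mathlib
import Cfsg.Agent.H511.Wt.QPE

/-!
# The action of a group on its minimal normal subgroups
-/

set_option autoImplicit false
set_option linter.style.haveILetI false
set_option linter.unusedSectionVars false

namespace Cfsg.Agent.H511.Wt

open Subgroup
open scoped Pointwise commutatorElement

universe u

variable {G : Type u} [Group G]

/-- a commutative subgroup, written additively -/
@[reducible] def addOf (M : Subgroup G) (h : ∀ a ∈ M, ∀ b ∈ M, a * b = b * a) : AddCommGroup (Additive M) :=
  @Additive.addCommGroup M { (inferInstance : Group M) with mul_comm := fun a b => Subtype.ext (h a a.2 b b.2) }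

/-- conjugation on a commutative normal subgroup -/
@[reducible] def actOf (M : Subgroup G) [hM : M.Normal] (h : ∀ a ∈ M, ∀ b ∈ M, a * b = b * a) :
    @DistribMulAction G (Additive M) _ (addOf M h).toAddMonoid :=
  letI := addOf M h
  { smul := fun g x => Additive.ofMul ⟨g * (Additive.toMul x : M) * g⁻¹, hM.conj_mem _ (Additive.toMul x).2 g⟩
    one_smul := fun x => by
      apply Additive.toMul.injective
      apply Subtype.ext
      change (1 : G) * (Additive.toMul x : M) * (1 : G)⁻¹ = _
      rw [one_mul, inv_one, mul_one]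
    mul_smul := fun g k x => by
      apply Additive.toMul.injective
      apply Subtype.ext
      change (g * k) * (Additive.toMul x : M) * (g * k)⁻¹ = g * (k * (Additive.toMul x : M) * k⁻¹) * g⁻¹
      group
    smul_zero := fun g => by
      apply Additive.toMul.injective
      apply Subtype.ext
      change g * (1 : G) * g⁻¹ = 1
      group
    smul_add := fun g x y => by
      apply Additive.toMul.injective
      apply Subtype.ext
      change g * ((Additive.toMul x : M) * (Additive.toMul y : M)) * g⁻¹ =
        (g * (Additive.toMul x : M) * g⁻¹) * (g * (Additive.toMul y : M) * g⁻¹)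
      group }

/-- the `d`-th derived group acts trivially -/
def DL (G V : Type*) [Group G] [AddCommGroup V] [DistribMulAction G V] (d : ℕ) : Prop :=
  ∀ g ∈ dser (⊤ : Subgroup G) d, ∀ x : V, g • x = x

theorem DL.mono {G V : Type*} [Group G] [AddCommGroup V] [DistribMulAction G V] {d d' : ℕ} (h : DL G V d)
    (hd : d ≤ d') : DL G V d' := fun g hg => h g (dser_anti _ hd hg)

/-- a bound for all irreducible solvable groups on modules of order `n` -/
def DLn (n d : ℕ) : Prop :=
  ∀ (G V : Type u) [Group G] [Finite G] [Group.IsSolvable G] [AddCommGroup V] [Finite V] [DistribMulAction G V],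
    Irr G V → Nat.card V = n → DL G V d

theorem dser_le_centralizer_of_min [Finite G] [Group.IsSolvable G] {n d : ℕ} (hb : DLn.{u} n d) (M : Subgroup G)
    [hMn : M.Normal] (hM : M ≠ ⊥) (hmin : ∀ N : Subgroup G, N.Normal → N ≤ M → N = ⊥ ∨ N = M)
    (hcomm : ∀ a ∈ M, ∀ b ∈ M, a * b = b * a) (hn : Nat.card M = n) :
    dser (⊤ : Subgroup G) d ≤ centralizer (M : Set G) := by
  letI i1 := addOf M hcomm
  letI i2 := actOf M hcomm
  haveI : Finite (Additive M) := inferInstanceAs (Finite M)
  have hirr : Irr G (Additive M) := by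
    refine ⟨?_, ?_⟩
    · have : Nontrivial M := (nontrivial_iff_ne_bot M).2 hM
      exact inferInstanceAs (Nontrivial M)
    · intro W hW
      -- the corresponding subgroup
      let N : Subgroup G :=
        { carrier := {x | ∃ h : x ∈ M, (Additive.ofMul (⟨x, h⟩ : M)) ∈ W}
          mul_mem' := by
            rintro x y ⟨hx, hx'⟩ ⟨hy, hy'⟩
            exact ⟨M.mul_mem hx hy, W.add_mem hx' hy'⟩
          one_mem' := ⟨M.one_mem, W.zero_mem⟩
          inv_mem' := by
            rintro x ⟨hx, hx'⟩
            exact ⟨M.inv_mem hx, W.neg_mem hx'⟩ }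
      have hN : N.Normal := by
        refine ⟨?_⟩
        rintro x ⟨hx, hx'⟩ g
        exact ⟨hMn.conj_mem x hx g, hW g _ hx'⟩
      have hNM : N ≤ M := fun x hx => hx.1
      rcases hmin N hN hNM with h | h
      · left
        rw [eq_bot_iff]
        intro x hx
        have h1 : ((Additive.toMul x : M) : G) ∈ N := ⟨(Additive.toMul x).2, hx⟩
        rw [h, mem_bot] at h1
        rw [AddSubgroup.mem_bot]
        exact Additive.toMul.injective (Subtype.ext h1)
      · right
        rw [eq_top_iff]
        intro x _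
        have h1 : ((Additive.toMul x : M) : G) ∈ N := by rw [h]; exact (Additive.toMul x).2
        exact h1.2
  have h1 := hb G (Additive M) hirr hn
  intro g hg
  rw [mem_centralizer_iff]
  intro x hx
  have h2 := h1 g hg (Additive.ofMul ⟨x, hx⟩)
  have h3 : g * x * g⁻¹ = x := congrArg (fun y : Additive M => ((Additive.toMul y : M) : G)) h2
  calc x * g = (g * x * g⁻¹) * g := by rw [h3]
    _ = g * x := by group

/-- relative version -/
theorem dser_le_cenMod_of_min [Finite G] [Group.IsSolvable G] {n d : ℕ} (hb : DLn.{u} n d) (C T : Subgroup G)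
    [C.Normal] [T.Normal] (hCT : C < T) (hmin : ∀ N : Subgroup G, N.Normal → C < N → N ≤ T → N = T)
    (hcomm : ⁅T, T⁆ ≤ C) (hn : C.relIndex T = n) : dser (⊤ : Subgroup G) d ≤ cenMod C T := by
  set π := QuotientGroup.mk' C with hπ
  have hπs : Function.Surjective π := QuotientGroup.mk'_surjective C
  have hn1 : (T.map π).Normal := Normal.map inferInstance π hπs
  have h1 := dser_le_centralizer_of_min hb (T.map π) (by
    rw [Ne, Subgroup.map_eq_bot_iff, QuotientGroup.ker_mk']
    exact hCT.not_ge) (by
    intro N hN hNT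
    by_cases h : C = N.comap π
    · left
      have h2 : N = (N.comap π).map π := (map_comap_eq_self_of_surjective hπs N).symm
      rw [h2, ← h, Subgroup.map_eq_bot_iff, QuotientGroup.ker_mk']
    · right
      have h2 : C ≤ N.comap π := by
        intro c hc
        rw [mem_comap, (show π c = 1 from (QuotientGroup.eq_one_iff c).2 hc)]
        exact N.one_mem
      have h3 : N.comap π ≤ T := by
        have h4 : (T.map π).comap π = T := by
          rw [comap_map_eq, QuotientGroup.ker_mk', sup_eq_left.2 hCT.le]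
        rw [← h4]
        exact comap_mono hNT
      have h4 := hmin _ inferInstance (lt_of_le_of_ne h2 h) h3
      rw [← h4, map_comap_eq_self_of_surjective hπs]) (by
    rintro _ ⟨a, ha, rfl⟩ _ ⟨b, hb', rfl⟩
    have h2 : π ⁅a, b⁆ = 1 := (QuotientGroup.eq_one_iff _).2 (hcomm (commutator_mem_commutator ha hb'))
    rwa [map_commutatorElement, commutatorElement_eq_one_iff_mul_comm] at h2) (by
    rw [← hn, ← relIndex_ker, QuotientGroup.ker_mk'])
  intro g hg
  rw [cenMod, mem_comap]
  apply h1
  have h2 : π g ∈ dser ((⊤ : Subgroup G).map π) d := by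
    rw [← map_dser]
    exact ⟨g, hg, rfl⟩
  exact dser_mono le_top d h2

/-- structure of a solvable group with a maximal subgroup, modulo the core -/
theorem coatom_struct' [Finite G] [Group.IsSolvable G] {M : Subgroup G} (hM : IsCoatom M) :
    ∃ T : Subgroup G, T.Normal ∧ M.normalCore < T ∧
      (∀ N : Subgroup G, N.Normal → M.normalCore < N → N ≤ T → N = T) ∧ ⁅T, T⁆ ≤ M.normalCore ∧
      M.normalCore.relIndex T = M.index ∧ cenMod M.normalCore T = T ∧ T ⊓ M = M.normalCore ∧ M ⊔ T = ⊤ := by
  set C := M.normalCore with hC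
  have hCM : C ≤ M := M.normalCore_le
  have hCtop : C < ⊤ := lt_of_le_of_lt hCM hM.lt_top
  obtain ⟨T, hT⟩ := (Set.toFinite {T : Subgroup G | T.Normal ∧ C < T}).exists_minimal ⟨⊤, inferInstance, hCtop⟩
  have hTn : T.Normal := hT.prop.1
  have hmin : ∀ N : Subgroup G, N.Normal → C < N → N ≤ T → N = T := fun N h1 h2 h3 =>
    le_antisymm h3 (hT.le_of_le ⟨h1, h2⟩ h3)
  have hcomm : ⁅T, T⁆ ≤ C := by
    by_contra hle
    have h1 : ⁅T, T⁆ ⊔ C = T := by
      apply hmin
      · infer_instance
      · refine lt_of_le_of_ne le_sup_right ?_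
        intro h
        exact hle (h ▸ le_sup_left)
      · exact sup_le (commutator_self_le T) hT.prop.2.le
    have h2 : T.map (QuotientGroup.mk' C) = ⊥ := by
      apply eq_bot_of_perfect
      conv_lhs => rw [← h1]
      rw [Subgroup.map_sup, map_commutator]
      refine sup_le le_rfl ?_
      rintro _ ⟨u, hu, rfl⟩
      have : QuotientGroup.mk' C u = 1 := (QuotientGroup.eq_one_iff u).2 hu
      rw [this]
      exact one_mem _
    rw [Subgroup.map_eq_bot_iff, QuotientGroup.ker_mk'] at h2
    exact hT.prop.2.not_ge h2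
  have hTM : ¬ T ≤ M := fun h => hT.prop.2.not_ge ((normal_le_normalCore (N := T)).2 h)
  have hsup : M ⊔ T = ⊤ := by
    apply hM.2
    refine lt_of_le_of_ne le_sup_left ?_
    intro h
    exact hTM (h ▸ le_sup_right)
  -- a subgroup of `M` normalised by `T` and `M` and lying over `C` equals `C`
  have key : ∀ N : Subgroup G, N ≤ M → C ≤ N → M ≤ normalizer (N : Set G) → T ≤ normalizer (N : Set G) → N = C := by
    intro N h1 h2 h3 h4
    have h5 : N.Normal := by
      rw [← normalizer_eq_top_iff, eq_top_iff, ← hsup]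
      exact sup_le h3 h4
    exact le_antisymm ((normal_le_normalCore (N := N)).2 h1) h2
  -- normalisation by `T`
  have norm_of : ∀ N D : Subgroup G, D.Normal → N = D ⊓ M → C ≤ N → ⁅D, T⁆ ≤ C → N = C := by
    intro N D hD hN hCN hDT
    refine key N (by rw [hN]; exact inf_le_right) hCN ?_ ?_
    · intro m hm
      rw [mem_normalizer_iff]
      intro x
      rw [hN, mem_inf, mem_inf]
      constructor
      · rintro ⟨h1, h2⟩
        exact ⟨hD.conj_mem x h1 m, M.mul_mem (M.mul_mem hm h2) (M.inv_mem hm)⟩
      · rintro ⟨h1, h2⟩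
        refine ⟨?_, ?_⟩
        · have := hD.conj_mem _ h1 m⁻¹
          have h3 : m⁻¹ * (m * x * m⁻¹) * m⁻¹⁻¹ = x := by group
          rwa [h3] at this
        · have h3 : x = m⁻¹ * (m * x * m⁻¹) * m := by group
          rw [h3]
          exact M.mul_mem (M.mul_mem (M.inv_mem hm) h2) hm
    · have h0 : ∀ t ∈ T, ∀ x ∈ N, t * x * t⁻¹ ∈ N := by
        intro t ht x hx
        have hxD : x ∈ D := by rw [hN] at hx; exact hx.1
        have h1 : ⁅x, t⁆ ∈ C := hDT (commutator_mem_commutator hxD ht)
        have h2 : t * x * t⁻¹ = ⁅x, t⁆⁻¹ * x := by rw [commutatorElement_def]; group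
        rw [h2]
        exact N.mul_mem (N.inv_mem (hCN h1)) hx
      intro t ht
      rw [mem_normalizer_iff]
      intro x
      refine ⟨h0 t ht x, fun h => ?_⟩
      have h1 := h0 t⁻¹ (T.inv_mem ht) _ h
      have h3 : t⁻¹ * (t * x * t⁻¹) * t⁻¹⁻¹ = x := by group
      rwa [h3] at h1
  have hTMC : T ⊓ M = C := norm_of _ T hTn rfl (le_inf hT.prop.2.le hCM) hcomm
  have hTcen : T ≤ cenMod C T := le_cenMod_iff.2 hcomm
  have hcenN : (cenMod C T).Normal := by
    rw [cenMod]
    have : (T.map (QuotientGroup.mk' C)).Normal := Normal.map inferInstance _ (QuotientGroup.mk'_surjective C)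
    infer_instance
  have hcenM : cenMod C T ⊓ M = C :=
    norm_of _ (cenMod C T) hcenN rfl (le_inf (hT.prop.2.le.trans hTcen) hCM) (le_cenMod_iff.1 le_rfl)
  refine ⟨T, hTn, hT.prop.2, hmin, hcomm, ?_, ?_, hTMC, hsup⟩
  · have h0 : C.relIndex T = M.relIndex T := by
      conv_lhs => rw [← hTMC]
      rw [inf_relIndex_left]
    rw [← hC, h0]
    have h1 : M.relIndex T = M.relIndex (T ⊔ M) := by
      have h2 : T.relIndex (M ⊔ T) = T.relIndex M := relIndex_sup_right _ _
      have h3 := card_mul_index (T.subgroupOf (M ⊔ T))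
      have h4 := card_mul_index (M.subgroupOf (M ⊔ T))
      have h5 := card_mul_index (T.subgroupOf M)
      have h6 := card_mul_index (M.subgroupOf T)
      rw [Nat.card_congr (subgroupOfEquivOfLe (le_sup_right : T ≤ M ⊔ T)).toEquiv] at h3
      rw [Nat.card_congr (subgroupOfEquivOfLe (le_sup_left : M ≤ M ⊔ T)).toEquiv] at h4
      have h7 : Nat.card (T.subgroupOf M) = Nat.card (M.subgroupOf T) := by
        rw [← inf_subgroupOf_right, ← inf_subgroupOf_right M T,
          Nat.card_congr (subgroupOfEquivOfLe (inf_le_right : T ⊓ M ≤ M)).toEquiv,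
          Nat.card_congr (subgroupOfEquivOfLe (inf_le_right : M ⊓ T ≤ T)).toEquiv, inf_comm]
      rw [h7] at h5
      change Nat.card T * T.relIndex (M ⊔ T) = _ at h3
      change Nat.card M * M.relIndex (M ⊔ T) = _ at h4
      change Nat.card (M.subgroupOf T) * T.relIndex M = _ at h5
      change Nat.card (M.subgroupOf T) * M.relIndex T = _ at h6
      rw [h2] at h3
      rw [sup_comm T M]
      have hp : 0 < Nat.card (M.subgroupOf T) * T.relIndex M := by
        rw [h5]; exact Nat.card_pos
      apply Nat.eq_of_mul_eq_mul_left hp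
      calc Nat.card (M.subgroupOf T) * T.relIndex M * M.relIndex T
          = (Nat.card (M.subgroupOf T) * M.relIndex T) * T.relIndex M := by ring
        _ = Nat.card T * T.relIndex M := by rw [h6]
        _ = Nat.card M * M.relIndex (M ⊔ T) := by rw [h3, h4]
        _ = _ := by rw [h5]
    rw [h1, sup_comm, hsup, relIndex_top_right]
  · refine le_antisymm ?_ hTcen
    intro x hx
    have h1 : x ∈ M ⊔ T := by rw [hsup]; exact mem_top x
    obtain ⟨m, hm, t, ht, rfl⟩ := mem_sup_of_normal_right.1 h1
    have h2 : m ∈ cenMod C T ⊓ M := by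
      refine ⟨?_, hm⟩
      have h3 : m = m * t * t⁻¹ := by group
      rw [h3]
      exact (cenMod C T).mul_mem hx ((cenMod C T).inv_mem (hTcen ht))
    rw [hcenM] at h2
    exact T.mul_mem (hT.prop.2.le h2) ht

theorem coatom_struct [Finite G] [Group.IsSolvable G] {M : Subgroup G} (hM : IsCoatom M) :
    ∃ T : Subgroup G, T.Normal ∧ M.normalCore < T ∧
      (∀ N : Subgroup G, N.Normal → M.normalCore < N → N ≤ T → N = T) ∧ ⁅T, T⁆ ≤ M.normalCore ∧
      M.normalCore.relIndex T = M.index ∧ cenMod M.normalCore T = T := by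
  obtain ⟨T, h1, h2, h3, h4, h5, h6, _, _⟩ := coatom_struct' hM
  exact ⟨T, h1, h2, h3, h4, h5, h6⟩

/-- the derived length of a primitive solvable permutation group -/
theorem dser_le_core [Finite G] [Group.IsSolvable G] {M : Subgroup G} (hM : IsCoatom M) {d : ℕ}
    (hb : DLn.{u} M.index d) : dser (⊤ : Subgroup G) (d + 1) ≤ M.normalCore := by
  obtain ⟨T, hT, h1, h2, h3, h4, h5⟩ := coatom_struct hM
  have h6 := dser_le_cenMod_of_min hb M.normalCore T h1 h2 h3 h4
  rw [h5] at h6
  exact dser_add_le h6 h3

end Cfsg.Agent.H511.Wt
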