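import Mathlib
import Cfsg.Agent.H511.Wt.MinAct

/-!
# Imprimitive linear groups
-/

set_option autoImplicit false
set_option linter.style.haveILetI false
set_option linter.unusedSectionVars false

namespace Cfsg.Agent.H511.Wt

open Subgroup
open scoped Pointwise commutatorElement

section res

variable {G V : Type*} [Group G] [AddCommGroup V] [DistribMulAction G V]

/-- the restriction of an action to an invariant subgroup -/
@[reducible] def resAct (M : Subgroup G) (U : AddSubgroup V) (h : ∀ m ∈ M, ∀ x ∈ U, m • x ∈ U) :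
    DistribMulAction M U where
  smul m x := ⟨(m : G) • (x : V), h m m.2 x x.2⟩
  one_smul x := Subtype.ext (one_smul G (x : V))
  mul_smul a b x := Subtype.ext (mul_smul (a : G) (b : G) (x : V))
  smul_zero a := Subtype.ext (smul_zero (a : G))
  smul_add a x y := Subtype.ext (smul_add (a : G) (x : V) (y : V))

end res

variable {G V : Type*} [Group G] [AddCommGroup V] [DistribMulAction G V]

/-- a system of imprimitivity indexed by the cosets of `M` -/
structure Imp (M : Subgroup G) (W : G ⧸ M → AddSubgroup V) : Prop where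
  smul : ∀ (g : G) (i : G ⧸ M), g • W i = W (g • i)
  ind : iSupIndep W
  top : ⨆ i, W i = ⊤

namespace Imp

variable {M : Subgroup G} {W : G ⧸ M → AddSubgroup V} (D : Imp M W)
include D

theorem smul_mem (g : G) {i : G ⧸ M} {x : V} (hx : x ∈ W i) : g • x ∈ W (g • i) := by
  rw [← D.smul]
  exact AddSubgroup.smul_mem_pointwise_smul x g _ hx

theorem smul_mem_iff (g : G) {i : G ⧸ M} {x : V} : g • x ∈ W (g • i) ↔ x ∈ W i := by
  refine ⟨fun h => ?_, D.smul_mem g⟩
  have := D.smul_mem g⁻¹ h
  rwa [inv_smul_smul, inv_smul_smul] at this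

theorem mem_of_mem (g : G) {x : V} (hx : x ∈ W ((1 : G) : G ⧸ M)) : g • x ∈ W (g : G ⧸ M) := by
  have h := D.smul_mem g hx
  rwa [MulAction.Quotient.smul_coe, smul_eq_mul, mul_one] at h

theorem res_mem : ∀ m ∈ M, ∀ x ∈ W ((1 : G) : G ⧸ M), m • x ∈ W ((1 : G) : G ⧸ M) := by
  intro m hm x hx
  have h := D.mem_of_mem m hx
  have h1 : (m : G ⧸ M) = ((1 : G) : G ⧸ M) := by
    rw [eq_comm, QuotientGroup.eq]
    simpa using hm
  rwa [h1] at h

theorem out_mem (i : G ⧸ M) {x : V} (hx : x ∈ W ((1 : G) : G ⧸ M)) : i.out • x ∈ W i := by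
  have h := D.mem_of_mem i.out hx
  rwa [QuotientGroup.out_eq'] at h

theorem card_W [Finite V] (i : G ⧸ M) : Nat.card (W i) = Nat.card (W ((1 : G) : G ⧸ M)) := by
  have h : W i = i.out • W ((1 : G) : G ⧸ M) := by
    rw [D.smul, MulAction.Quotient.smul_coe, smul_eq_mul, mul_one, QuotientGroup.out_eq']
  rw [h]
  refine Nat.card_congr ⟨fun x => ⟨i.out⁻¹ • (x : V), mem_smul_iff.1 x.2⟩,
    fun x => ⟨i.out • (x : V), AddSubgroup.smul_mem_pointwise_smul _ _ _ x.2⟩, fun x => ?_, fun x => ?_⟩
  · exact Subtype.ext (smul_inv_smul _ (x : V))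
  · exact Subtype.ext (inv_smul_smul _ (x : V))

theorem card_V [Finite G] [Finite V] : Nat.card V = Nat.card (W ((1 : G) : G ⧸ M)) ^ M.index := by
  classical
  letI : Fintype (G ⧸ M) := Fintype.ofFinite _
  have e : (∀ i, W i) ≃ V := by
    refine Equiv.ofBijective (fun f => ∑ i, (f i : V)) ⟨?_, ?_⟩
    · intro f g h
      funext i
      apply Subtype.ext
      have h1 := sum_unique D.ind (f := fun i => (f i : V) - (g i : V))
        (fun i => (W i).sub_mem (f i).2 (g i).2) (by
          rw [Finset.sum_sub_distrib]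
          exact sub_eq_zero.2 h) i
      exact sub_eq_zero.1 h1
    · intro x
      obtain ⟨f, hf, hx⟩ := exists_sum D.top x
      exact ⟨fun i => ⟨f i, hf i⟩, hx⟩
  rw [← Nat.card_congr e, Nat.card_pi, Finset.prod_congr rfl fun i _ => D.card_W i, Finset.prod_const,
    Finset.card_univ, index, Nat.card_eq_fintype_card (α := G ⧸ M)]

theorem irr_res [Finite G] (hirr : Irr G V) :
    letI := resAct M (W ((1 : G) : G ⧸ M)) D.res_mem
    Irr M (W ((1 : G) : G ⧸ M)) := by
  classical
  letI := resAct M (W ((1 : G) : G ⧸ M)) D.res_mem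
  letI : Fintype (G ⧸ M) := Fintype.ofFinite _
  refine ⟨?_, ?_⟩
  · rw [AddSubgroup.nontrivial_iff_ne_bot]
    intro h
    have h1 : (⨆ i, W i) = ⊥ := by
      rw [eq_bot_iff]
      refine iSup_le fun i => ?_
      have h : W i = i.out • W ((1 : G) : G ⧸ M) := by
        rw [D.smul, MulAction.Quotient.smul_coe, smul_eq_mul, mul_one, QuotientGroup.out_eq']
      rw [h, ‹W ((1 : G) : G ⧸ M) = ⊥›]
      intro x hx
      rw [mem_smul_iff, AddSubgroup.mem_bot, smul_eq_zero_iff_eq] at hx
      exact hx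
    rw [D.top] at h1
    have := hirr.nt
    exact absurd h1 top_ne_bot
  · intro U' hU'
    set U : AddSubgroup V := U'.map (W ((1 : G) : G ⧸ M)).subtype with hU
    have hUW : U ≤ W ((1 : G) : G ⧸ M) := by
      rintro _ ⟨x, _, rfl⟩
      exact x.2
    have hUM : ∀ m ∈ M, ∀ x ∈ U, m • x ∈ U := by
      rintro m hm _ ⟨x, hx, rfl⟩
      exact ⟨_, hU' ⟨m, hm⟩ x hx, rfl⟩
    rcases hirr.irr (⨆ g : G, g • U) (by
      intro g x hx
      have h1 : g • x ∈ g • (⨆ k : G, k • U) := AddSubgroup.smul_mem_pointwise_smul x g _ hx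
      rw [smul_iSup'] at h1
      have h2 : ⨆ k : G, g • k • U ≤ ⨆ k : G, k • U := by
        refine iSup_le fun k => ?_
        rw [smul_smul]
        exact le_iSup (fun k : G => k • U) (g * k)
      exact h2 h1) with h | h
    · left
      rw [eq_bot_iff]
      intro x hx
      have h1 : (x : V) ∈ (⊥ : AddSubgroup V) := by
        rw [← h]
        have h2 : (x : V) ∈ (1 : G) • U := by
          rw [one_smul]
          exact ⟨x, hx, rfl⟩
        exact (le_iSup (fun k : G => k • U) 1) h2
      rw [AddSubgroup.mem_bot] at h1 ⊢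
      exact Subtype.ext h1
    · right
      rw [eq_top_iff]
      intro x _
      -- the components
      let Y : G ⧸ M → AddSubgroup V := fun i => i.out • U
      have hY : ⨆ i, Y i = ⊤ := by
        rw [eq_top_iff, ← h]
        refine iSup_le fun g => ?_
        refine le_iSup_of_le (g : G ⧸ M) ?_
        intro y hy
        change y ∈ (g : G ⧸ M).out • U
        rw [mem_smul_iff] at hy ⊢
        have h1 : ((g : G ⧸ M).out)⁻¹ * g ∈ M := by
          rw [← QuotientGroup.eq, QuotientGroup.out_eq']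
        have h2 := hUM _ h1 _ hy
        rwa [mul_smul, smul_inv_smul] at h2
      have hYW : ∀ i, Y i ≤ W i := by
        intro i y hy
        rw [mem_smul_iff] at hy
        have h1 := D.out_mem i (hUW hy)
        rwa [smul_inv_smul] at h1
      obtain ⟨f, hf, hfx⟩ := exists_sum hY (x : V)
      have h1 := sum_unique D.ind
        (f := fun i => f i - (Pi.single ((1 : G) : G ⧸ M) (x : V) : G ⧸ M → V) i) (by
          intro i
          refine (W i).sub_mem (hYW i (hf i)) ?_
          by_cases hi : i = ((1 : G) : G ⧸ M)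
          · subst hi
            rw [Pi.single_eq_same]
            exact x.2
          · rw [Pi.single_eq_of_ne hi]
            exact (W i).zero_mem) (by
          rw [Finset.sum_sub_distrib, hfx, Finset.sum_pi_single']
          simp) ((1 : G) : G ⧸ M)
      rw [Pi.single_eq_same, sub_eq_zero] at h1
      have h2 := hf ((1 : G) : G ⧸ M)
      rw [h1] at h2
      change (x : V) ∈ ((1 : G) : G ⧸ M).out • U at h2
      rw [mem_smul_iff] at h2
      have h3 : (((1 : G) : G ⧸ M).out) ∈ M := by
        have h4 : ((1 : G) : G ⧸ M) = ((((1 : G) : G ⧸ M).out : G) : G ⧸ M) := by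
          rw [QuotientGroup.out_eq']
        rw [QuotientGroup.eq] at h4
        simpa using h4
      have h4 := hUM _ h3 _ h2
      rw [smul_inv_smul] at h4
      obtain ⟨y, hy, hyx⟩ := h4
      have : y = x := Subtype.ext hyx
      rwa [this] at hy

/-- an element acting trivially on every component acts trivially -/
theorem trivial_of [Finite G] {g : G} (h : ∀ i : G ⧸ M, ∀ x ∈ W i, g • x = x) (x : V) : g • x = x := by
  classical
  letI : Fintype (G ⧸ M) := Fintype.ofFinite _
  obtain ⟨f, hf, rfl⟩ := exists_sum D.top x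
  rw [Finset.smul_sum]
  exact Finset.sum_congr rfl fun i _ => h i _ (hf i)

/-- action of a subgroup fixing `i` on the component `W i` -/
theorem act_of {L : Subgroup G} {i : G ⧸ M} (hL : ∀ g ∈ L, g • i = i) {d : ℕ}
    (hd : letI := resAct M (W ((1 : G) : G ⧸ M)) D.res_mem
      ∀ P : Subgroup M, (∀ m ∈ P, i.out * (m : G) * i.out⁻¹ ∈ L) →
        ∀ m ∈ dser P d, ∀ x : W ((1 : G) : G ⧸ M), m • x = x) :
    ∀ g ∈ dser L d, ∀ x ∈ W i, g • x = x := by
  letI := resAct M (W ((1 : G) : G ⧸ M)) D.res_mem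
  set t := i.out with ht
  set P : Subgroup M := (L.comap (MulAut.conj t).toMonoidHom).comap M.subtype with hP
  have hPL : ∀ m ∈ P, t * (m : G) * t⁻¹ ∈ L := fun m hm => hm
  -- `dser L d` conjugates into `dser P d`
  have h1 : L ≤ (P.map M.subtype).map (MulAut.conj t).toMonoidHom := by
    intro g hg
    have h2 : t⁻¹ * g * t ∈ M := by
      have h3 := hL g hg
      have h4 : (g * t : G) = (i : G ⧸ M) := by
        rw [← smul_eq_mul, ← MulAction.Quotient.smul_coe, ht, QuotientGroup.out_eq', h3]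
      have h5 : ((t : G) : G ⧸ M) = ((g * t : G) : G ⧸ M) := by rw [h4, ht, QuotientGroup.out_eq']
      rw [QuotientGroup.eq] at h5
      rwa [← mul_assoc] at h5
    refine ⟨t⁻¹ * g * t, ⟨⟨t⁻¹ * g * t, h2⟩, ?_, rfl⟩, ?_⟩
    · change t * (t⁻¹ * g * t) * t⁻¹ ∈ L
      have : t * (t⁻¹ * g * t) * t⁻¹ = g := by group
      rwa [this]
    · change t * (t⁻¹ * g * t) * t⁻¹ = g
      group
  intro g hg x hx
  have h2 := dser_mono h1 d hg
  rw [← map_dser, ← map_dser] at h2
  obtain ⟨_, ⟨m, hm, rfl⟩, hmg⟩ := h2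
  have h3 : g = t * (m : G) * t⁻¹ := hmg.symm
  have h4 : t⁻¹ • x ∈ W ((1 : G) : G ⧸ M) := by
    have h5 := D.smul_mem t⁻¹ hx
    have h6 : t⁻¹ • i = ((1 : G) : G ⧸ M) := by
      rw [inv_smul_eq_iff, MulAction.Quotient.smul_coe, smul_eq_mul, mul_one, ht, QuotientGroup.out_eq']
    rwa [h6] at h5
  have h5 := hd P hPL m hm ⟨t⁻¹ • x, h4⟩
  have h6 : (m : G) • (t⁻¹ • x) = t⁻¹ • x := congrArg Subtype.val h5
  rw [h3, mul_smul, mul_smul, h6, smul_inv_smul]

/-- the derived length of an imprimitive group -/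
theorem dl [Finite G] {a b : ℕ}
    (ha : letI := resAct M (W ((1 : G) : G ⧸ M)) D.res_mem
      DL M (W ((1 : G) : G ⧸ M)) a)
    (hb : dser (⊤ : Subgroup G) b ≤ M.normalCore) : DL G V (b + a) := by
  letI := resAct M (W ((1 : G) : G ⧸ M)) D.res_mem
  intro g hg
  rw [← dser_dser] at hg
  refine D.trivial_of fun i => ?_
  refine D.act_of (L := M.normalCore) ?_ ?_ g (dser_mono hb a hg)
  · intro g hg
    have h1 : g ∈ (MulAction.toPermHom G (G ⧸ M)).ker := by rwa [← normalCore_eq_ker]
    have h2 : MulAction.toPermHom G (G ⧸ M) g = 1 := h1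
    exact congrArg (fun e : Equiv.Perm (G ⧸ M) => e i) h2
  · intro P _ m hm
    exact ha m (dser_mono le_top a hm)

end Imp

end Cfsg.Agent.H511.Wt
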