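import Mathlib
import Cfsg.Agent.H511.Wt.Imp
import Cfsg.Agent.H511.Wt.QPF

/-!
# The derived length of irreducible solvable groups: the recursion
-/

set_option autoImplicit false
set_option linter.style.haveILetI false
set_option linter.unusedSectionVars false

namespace Cfsg.Agent.H511.Wt

open Subgroup
open scoped Pointwise commutatorElement

universe u

section prime

variable {G V : Type*} [Group G] [AddCommGroup V] [Finite V] [DistribMulAction G V]

theorem Irr.exists_prime (h : Irr G V) : ∃ p : ℕ, p.Prime ∧ ∀ x : V, p • x = 0 := by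
  have hnt := h.nt
  have h1 : Nat.card V ≠ 1 := Finite.one_lt_card.ne'
  obtain ⟨p, hp, hpd⟩ := Nat.exists_prime_and_dvd h1
  have : Fact p.Prime := ⟨hp⟩
  refine ⟨p, hp, ?_⟩
  let U : AddSubgroup V :=
    { carrier := {x | p • x = 0}
      add_mem' := fun {a b} ha hb => by
        change p • (a + b) = 0
        rw [smul_add, show p • a = 0 from ha, show p • b = 0 from hb, add_zero]
      zero_mem' := smul_zero p
      neg_mem' := fun {a} ha => by
        change p • (-a) = 0
        rw [smul_neg, show p • a = 0 from ha, neg_zero] }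
  have hU : ∀ g : G, ∀ x ∈ U, g • x ∈ U := by
    intro g x hx
    change p • (g • x) = 0
    rw [smul_comm, show p • x = 0 from hx, smul_zero]
  rcases h.irr U hU with h2 | h2
  · exfalso
    obtain ⟨x, hx⟩ := exists_prime_addOrderOf_dvd_card' (G := V) p hpd
    have h3 : x ∈ U := by
      change p • x = 0
      rw [← hx]
      exact addOrderOf_nsmul_eq_zero x
    rw [h2, AddSubgroup.mem_bot] at h3
    rw [h3, addOrderOf_zero] at hx
    exact hp.one_lt.ne hx
  · intro x
    have h3 : x ∈ U := by rw [h2]; exact AddSubgroup.mem_top x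
    exact h3

theorem Irr.isPrimePow (h : Irr G V) : IsPrimePow (Nat.card V) := by
  obtain ⟨p, hp, hpx⟩ := h.exists_prime
  have : Fact p.Prime := ⟨hp⟩
  have hnt := h.nt
  obtain ⟨inst⟩ : Nonempty (Module (ZMod p) V) := ⟨AddCommGroup.zmodModule hpx⟩
  have h1 := Module.natCard_eq_pow_finrank (K := ZMod p) (V := V)
  rw [h1, Nat.card_zmod]
  refine hp.isPrimePow.pow ?_
  exact (Module.finrank_pos (R := ZMod p) (M := V)).ne'

end prime

/-- irreducible modules have prime power order -/
theorem dln_of_not_primePow {n d : ℕ} (h : ¬ IsPrimePow n) : DLn.{u} n d := by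
  intro G V _ _ _ _ _ _ hirr hn
  exact absurd (hn ▸ hirr.isPrimePow) h

theorem DLn.mono {n d d' : ℕ} (h : DLn.{u} n d) (hd : d ≤ d') : DLn.{u} n d' := by
  intro G V _ _ _ _ _ _ hirr hn
  exact (h G V hirr hn).mono hd

theorem dln_two : DLn.{u} 2 0 := by
  intro G V _ _ _ _ _ _ hirr hn g _ x
  by_cases hx : x = 0
  · rw [hx, smul_zero]
  by_contra hne
  have h1 : g • x ≠ 0 := by rwa [Ne, smul_eq_zero_iff_eq]
  have h2 : ({0, x, g • x} : Set V).ncard = 3 := by
    rw [Set.ncard_eq_three]
    exact ⟨0, x, g • x, Ne.symm hx, Ne.symm h1, Ne.symm hne, rfl⟩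
  have h3 : ({0, x, g • x} : Set V).ncard ≤ Nat.card V := Set.ncard_le_card _
  omega

theorem dln_prime {p : ℕ} (hp : p.Prime) : DLn.{u} p 1 := by
  intro G V _ _ _ _ _ _ hirr hn
  have hfact : Fact p.Prime := ⟨hp⟩
  have hcyc : IsAddCyclic V := isAddCyclic_of_prime_card hn
  obtain ⟨x, hx⟩ := hcyc.exists_zsmul_surjective
  have h1 : dser (⊤ : Subgroup G) 1 ≤ (DistribMulAction.toAddAut G V).ker := by
    change ⁅(⊤ : Subgroup G), ⊤⁆ ≤ _
    rw [commutator_le]
    intro a _ b _
    rw [MonoidHom.mem_ker, map_commutatorElement, commutatorElement_eq_one_iff_mul_comm]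
    apply AddEquiv.ext
    intro v
    obtain ⟨n, rfl⟩ := hx v
    obtain ⟨i, hi⟩ := hx (a • x)
    obtain ⟨j, hj⟩ := hx (b • x)
    change a • b • (n • x) = b • a • (n • x)
    have e1 : ∀ (g : G) (k : ℤ) (y : V), g • (k • y) = k • (g • y) := fun g k y => smul_comm g k y
    rw [e1 b, e1 a, e1 a n, e1 b n]
    congr 1
    rw [← hj, ← hi]
    change a • (j • x) = b • (i • x)
    rw [e1, e1, ← hi, ← hj]
    change j • i • x = i • j • x
    rw [smul_smul, smul_smul, mul_comm]
  intro g hg x
  have h2 := h1 hg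
  rw [MonoidHom.mem_ker] at h2
  exact congrArg (fun f : AddAut V => f x) h2

/-- the image of `G` in the permutations of `V` -/
abbrev Im (G V : Type*) [Group G] [AddCommGroup V] [DistribMulAction G V] :=
  (MulAction.toPermHom G V).range

section im

variable {G V : Type*} [Group G] [AddCommGroup V] [DistribMulAction G V]

instance imAct : DistribMulAction (Im G V) V where
  smul g x := (g : Equiv.Perm V) x
  one_smul x := rfl
  mul_smul a b x := rfl
  smul_zero := by
    rintro ⟨_, g, rfl⟩
    exact smul_zero g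
  smul_add := by
    rintro ⟨_, g, rfl⟩ x y
    exact smul_add g x y

/-- the surjection onto the image -/
def toIm (G V : Type*) [Group G] [AddCommGroup V] [DistribMulAction G V] : G →* Im G V :=
  (MulAction.toPermHom G V).rangeRestrict

theorem toIm_smul (g : G) (x : V) : toIm G V g • x = g • x := rfl

theorem toIm_surjective : Function.Surjective (toIm G V) := (MulAction.toPermHom G V).rangeRestrict_surjective

/-- passing to the image in the automorphism group -/
theorem DL.of_range {d : ℕ} (h : DL (Im G V) V d) : DL G V d := by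
  intro g hg x
  have h1 : toIm G V g ∈ dser ((⊤ : Subgroup G).map (toIm G V)) d := by
    rw [← map_dser]
    exact ⟨g, hg, rfl⟩
  exact h _ (dser_mono le_top d h1) x

theorem Irr.range (h : Irr G V) : Irr (Im G V) V := by
  refine ⟨h.nt, fun U hU => h.irr U fun g x hx => ?_⟩
  exact hU (toIm G V g) x hx

theorem range_faithful (g : Im G V) (h : ∀ x : V, g • x = x) : g = 1 := by
  apply Subtype.ext
  apply Equiv.ext
  exact h

theorem range_solvable [Group.IsSolvable G] : Group.IsSolvable (Im G V) :=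
  Group.isSolvable_of_surjective (f := toIm G V) toIm_surjective

instance range_finite [Finite G] : Finite (Im G V) := Finite.of_surjective _ (toIm_surjective (G := G) (V := V))

end im

namespace QP

variable {K V : Type*} {G : Type u} [Field K] [Finite K] [AddCommGroup V] [Module K V] [Finite V] [Nontrivial V]
    [Group G] [Finite G] [DistribMulAction G V] (S : QP K V G)

theorem relIndex_mn {N : Subgroup G} (hN : N ∈ S.Mn) : S.U.relIndex N ∣ S.s ∧ 1 < S.U.relIndex N := by
  constructor
  · rw [s, ← relIndex_mul_relIndex S.U N S.E hN.2.1.le (S.Mn_le_E hN)]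
    exact dvd_mul_right _ _
  · have h1 : S.U.relIndex N ≠ 0 := by rw [relIndex]; exact index_ne_zero_of_finite
    have h2 : S.U.relIndex N ≠ 1 := by
      rw [Ne, relIndex_eq_one]
      exact hN.2.1.not_ge
    omega

/-- the derived length modulo `E` -/
theorem dser_le_E_of [Group.IsSolvable G] {d : ℕ} (hd : 1 ≤ d) (h : ∀ n, n ∣ S.s → 1 < n → DLn.{u} n d) :
    dser (⊤ : Subgroup G) d ≤ S.E := by
  refine S.dser_le_E hd fun N hN => ?_
  have h1 := S.relIndex_mn hN
  have := hN.1
  exact dser_le_cenMod_of_min (h _ h1.1 h1.2) S.U N hN.2.1 (fun N' h2 h3 h4 => hN.2.2.2 N' h2 h3 h4)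
    (S.mn_comm hN) rfl

theorem eq_of_s_one [Group.IsSolvable G] (h : S.s = 1) : S.A = S.U := by
  have h1 : S.E = S.U := le_antisymm (by rwa [s, relIndex_eq_one] at h) S.U_le_E
  have h2 := S.cenMod_E_inf_A
  rw [h1] at h2
  refine le_antisymm ?_ S.U_le_A
  intro x hx
  rw [← h2]
  refine ⟨mem_cenMod.2 ?_, hx⟩
  intro y hy
  have : ⁅x, y⁆ = 1 := by
    rw [commutatorElement_eq_one_iff_mul_comm]
    exact S.A_comm_U hx hy
  rw [this]
  exact S.U.one_mem

theorem dser_two_of_s_one [Group.IsSolvable G] (h : S.s = 1) : dser (⊤ : Subgroup G) 2 = ⊥ := by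
  rw [eq_bot_iff]
  have h1 : dser (⊤ : Subgroup G) 1 ≤ S.U := by
    rw [← S.eq_of_s_one h]
    exact S.derived_le_A
  exact dser_add_le h1 (dser_one_of_comm fun a ha b hb => S.U_comm ha hb).le

end QP

/-- **The recursion for the derived length.** -/
theorem dl_cases (G V : Type u) [Group G] [Finite G] [Group.IsSolvable G] [AddCommGroup V] [Finite V]
    [DistribMulAction G V] (hirr : Irr G V) :
    (∃ w k : ℕ, 2 ≤ w ∧ 2 ≤ k ∧ Nat.card V = w ^ k ∧ ∀ a b, DLn.{u} w a → DLn.{u} k b → DL G V (b + 1 + a)) ∨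
    (∃ q m s : ℕ, IsPrimePow q ∧ 1 ≤ m ∧ Nat.card V = q ^ m ∧ s ≤ m ^ 2 ∧ (∃ e, s = e ^ 2) ∧ 0 < s ∧
      (∀ r, r.Prime → r ∣ s → r ∣ q - 1 ∧ r ∣ m) ∧ (s = 1 → DL G V 2) ∧
      ∀ d, 1 ≤ d → (∀ n, n ∣ s → 1 < n → DLn.{u} n d) → DL G V (d + 2)) := by
  have hnt := hirr.nt
  have hsol : Group.IsSolvable (Im G V) := range_solvable
  rcases exists_qp (Im G V) V hirr.range range_faithful with h | ⟨K, i1, i2, i3, ⟨S⟩⟩
  · left
    obtain ⟨M, W, hM, h1, h2, h3⟩ := h
    have D : Imp M W := ⟨h1, h2, h3⟩
    letI := resAct M (W ((1 : (Im G V)) : _ ⧸ M)) D.res_mem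
    have h4 := D.irr_res hirr.range
    refine ⟨Nat.card (W ((1 : (Im G V)) : _ ⧸ M)), M.index, ?_, ?_, D.card_V, ?_⟩
    · have := h4.nt
      exact Finite.one_lt_card
    · have h5 : M.index ≠ 0 := index_ne_zero_of_finite
      have h6 : M.index ≠ 1 := by
        rw [Ne, index_eq_one]
        exact hM.1
      omega
    · intro a b ha hb
      apply DL.of_range
      have h5 := dser_le_core hM hb
      exact D.dl (ha M _ h4 rfl) h5
  · right
    refine ⟨Nat.card K, Module.finrank K V, S.s, ?_, Module.finrank_pos, QP.card_V_eq, S.s_le', S.exists_sq,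
      S.s_pos, ?_, ?_, ?_⟩
    · haveI : Fintype K := Fintype.ofFinite K
      rw [Nat.card_eq_fintype_card]
      exact FiniteField.isPrimePow_card K
    · intro r hr hrs
      obtain ⟨h1, h2⟩ := S.prime_dvd hr hrs
      exact ⟨h1.trans S.card_U_dvd, h2⟩
    · intro h
      apply DL.of_range
      have h1 := S.dser_two_of_s_one h
      intro g hg x
      rw [h1, mem_bot] at hg
      rw [hg, one_smul]
    · intro d hd h
      apply DL.of_range
      have h1 := S.dser_top_eq_bot (S.dser_le_E_of hd h)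
      intro g hg x
      rw [h1, mem_bot] at hg
      rw [hg, one_smul]

end Cfsg.Agent.H511.Wt
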