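import Mathlib
import Cfsg.Agent.H511.Wt.Chain
import Cfsg.Agent.H511.Wt.DLStep

/-!
# Counting
-/

set_option autoImplicit false
set_option linter.style.haveILetI false
set_option linter.unusedSectionVars false

namespace Cfsg.Agent.H511.Wt

open Subgroup
open scoped Pointwise commutatorElement

section

variable {G V : Type*} [Group G] [Finite G] [Finite V] [MulAction G V]

theorem exists_ineq (T : Set V) (n : ℕ) (h : n * Nat.card G < T.ncard) :
    ∃ v : Fin (n + 1) → V, (∀ i, v i ∈ T) ∧ ∀ i j, i ≠ j → ∀ g : G, g • v i ≠ v j := by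
  induction n with
  | zero =>
    have h1 : 0 < T.ncard := by omega
    obtain ⟨x, hx⟩ := (Set.ncard_pos (Set.toFinite T)).1 h1
    refine ⟨fun _ => x, fun _ => hx, fun i j hij => ?_⟩
    exact absurd (Fin.ext (by omega)) hij
  | succ n ih =>
    obtain ⟨v, hv, hvv⟩ := ih (by nlinarith)
    let f : Fin (n + 1) × G → V := fun p => p.2 • v p.1
    have h1 : (Set.range f).ncard ≤ (n + 1) * Nat.card G := by
      have h2 := Finite.card_range_le f
      rw [Nat.card_prod, Nat.card_fin] at h2
      exact h2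
    obtain ⟨x, hx, hxf⟩ : ∃ x ∈ T, x ∉ Set.range f := by
      by_contra hcon
      push Not at hcon
      have h2 : T.ncard ≤ (Set.range f).ncard := Set.ncard_le_ncard hcon (Set.toFinite _)
      omega
    refine ⟨Fin.cons x v, ?_, ?_⟩
    · intro i
      refine Fin.cases ?_ ?_ i
      · exact hx
      · intro i
        exact hv i
    · intro i j
      refine Fin.cases ?_ (fun i => ?_) i
      · refine Fin.cases ?_ (fun j => ?_) j
        · intro h
          exact absurd rfl h
        · intro _ g hg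
          simp only [Fin.cons_zero, Fin.cons_succ] at hg
          exact hxf ⟨(j, g⁻¹), by change g⁻¹ • v j = x; rw [← hg, inv_smul_smul]⟩
      · refine Fin.cases ?_ (fun j => ?_) j
        · intro _ g hg
          simp only [Fin.cons_zero, Fin.cons_succ] at hg
          exact hxf ⟨(i, g), hg⟩
        · intro hij g hg
          simp only [Fin.cons_succ] at hg
          exact hvv i j (fun h => hij (by rw [h])) g hg

end

section

variable {G V : Type*} [Group G] [Finite G] [AddCommGroup V] [Finite V] [DistribMulAction G V]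

/-- many regular vectors -/
theorem card_regular (hfx : ∀ x : G, x ≠ 1 → Nat.card (fx V x) ^ 4 ≤ Nat.card V ^ 3)
    (hc : (2 * Nat.card G) ^ 4 ≤ Nat.card V) :
    4 * Nat.card G < {v : V | ∀ g : G, g • v = v → g = 1}.ncard := by
  classical
  letI : Fintype G := Fintype.ofFinite G
  letI : Fintype V := Fintype.ofFinite V
  set T : Set V := {v : V | ∀ g : G, g • v = v → g = 1} with hT
  have hg0 : 0 < Nat.card G := Nat.card_pos
  -- single elements
  have h1 : ∀ x : G, x ≠ 1 → Nat.card (fx V x) * (2 * Nat.card G) ≤ Nat.card V := by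
    intro x hx
    have h2 : (Nat.card (fx V x) * (2 * Nat.card G)) ^ 4 ≤ Nat.card V ^ 4 := by
      calc (Nat.card (fx V x) * (2 * Nat.card G)) ^ 4 = Nat.card (fx V x) ^ 4 * (2 * Nat.card G) ^ 4 := mul_pow _ _ _
        _ ≤ Nat.card V ^ 3 * Nat.card V := Nat.mul_le_mul (hfx x hx) hc
        _ = Nat.card V ^ 4 := by ring
    exact (Nat.pow_le_pow_iff_left (by norm_num)).1 h2
  have h3 : Tᶜ ⊆ ⋃ x ∈ (Finset.univ.erase (1 : G)), ((fx V x : AddSubgroup V) : Set V) := by
    intro v hv
    rw [Set.mem_compl_iff, hT, Set.mem_ofPred_eq] at hv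
    push Not at hv
    obtain ⟨g, hg, hg1⟩ := hv
    rw [Set.mem_iUnion₂]
    exact ⟨g, Finset.mem_erase.2 ⟨hg1, Finset.mem_univ g⟩, hg⟩
  have h4 : Tᶜ.ncard ≤ ∑ x ∈ Finset.univ.erase (1 : G), Nat.card (fx V x) := by
    refine (Set.ncard_le_ncard h3 (Set.toFinite _)).trans ?_
    have h5 : (⋃ x ∈ (Finset.univ.erase (1 : G)), ((fx V x : AddSubgroup V) : Set V)) =
        ↑((Finset.univ.erase (1 : G)).biUnion fun x => ((fx V x : AddSubgroup V) : Set V).toFinset) := by
      ext v
      simp
    rw [h5, Set.ncard_coe_finset]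
    refine Finset.card_biUnion_le.trans ?_
    refine Finset.sum_le_sum fun x _ => ?_
    rw [← Set.ncard_eq_toFinset_card']
    exact le_rfl
  have h6 : (∑ x ∈ Finset.univ.erase (1 : G), Nat.card (fx V x)) * (2 * Nat.card G) ≤ Nat.card G * Nat.card V := by
    rw [Finset.sum_mul]
    refine (Finset.sum_le_sum (g := fun _ => Nat.card V) fun x hx => h1 x (Finset.ne_of_mem_erase hx)).trans ?_
    rw [Finset.sum_const, smul_eq_mul]
    refine Nat.mul_le_mul_right _ ?_
    rw [Nat.card_eq_fintype_card]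
    exact (Finset.card_le_card (Finset.erase_subset _ _)).trans (Finset.card_univ (α := G)).le
  have h7 : 2 * Tᶜ.ncard ≤ Nat.card V := by
    have h8 : (2 * Tᶜ.ncard) * Nat.card G ≤ Nat.card V * Nat.card G := by
      calc (2 * Tᶜ.ncard) * Nat.card G = Tᶜ.ncard * (2 * Nat.card G) := by ring
        _ ≤ (∑ x ∈ Finset.univ.erase (1 : G), Nat.card (fx V x)) * (2 * Nat.card G) := Nat.mul_le_mul_right _ h4
        _ ≤ _ := h6
        _ = _ := by ring
    exact Nat.le_of_mul_le_mul_right h8 hg0
  have h9 : T.ncard + Tᶜ.ncard = Nat.card V := Set.ncard_add_ncard_compl T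
  have h10 : 16 * Nat.card G ≤ Nat.card V := by
    refine le_trans ?_ hc
    have h11 : Nat.card G ^ 1 ≤ Nat.card G ^ 4 := Nat.pow_le_pow_right hg0 (by norm_num)
    rw [pow_one] at h11
    rw [mul_pow]
    norm_num only
    exact Nat.mul_le_mul_left 16 h11
  omega

theorem orb_regular (hfx : ∀ x : G, x ≠ 1 → Nat.card (fx V x) ^ 4 ≤ Nat.card V ^ 3)
    (hc : (2 * Nat.card G) ^ 4 ≤ Nat.card V) : Orb G V 5 0 := by
  obtain ⟨v, hv, hvv⟩ := exists_ineq (G := G) _ 4 (card_regular hfx hc)
  refine ⟨v, hvv, fun i g hg x => ?_⟩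
  rw [hv i g hg, one_smul]

end

section aut

variable {K : Type*} [Field K] [Finite K]

theorem card_ringAut_le : 2 ^ Nat.card (K ≃+* K) ≤ Nat.card K := by
  classical
  obtain ⟨p, hchar⟩ := CharP.exists K
  have hp : p.Prime := (CharP.char_is_prime_or_zero K p).resolve_right (CharP.char_ne_zero_of_finite K p)
  haveI : Fact p.Prime := ⟨hp⟩
  letI := ZMod.algebra K p
  haveI : Fintype K := Fintype.ofFinite K
  -- ring automorphisms are algebra automorphisms
  let f : (K ≃+* K) → (K ≃ₐ[ZMod p] K) := fun e =>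
    AlgEquiv.ofRingEquiv (f := e) (fun x => by
      have : (e : K →+* K).comp (algebraMap (ZMod p) K) = algebraMap (ZMod p) K := RingHom.ext_zmod _ _
      exact congrArg (fun φ : ZMod p →+* K => φ x) this)
  have hf : Function.Injective f := by
    intro a b h
    apply RingEquiv.ext
    intro x
    exact congrArg (fun φ : K ≃ₐ[ZMod p] K => φ x) h
  have h1 : Nat.card (K ≃+* K) ≤ Nat.card (K ≃ₐ[ZMod p] K) := Nat.card_le_card_of_injective f hf
  have h2 : Nat.card (K ≃ₐ[ZMod p] K) = Module.finrank (ZMod p) K := IsGalois.card_aut_eq_finrank (ZMod p) K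
  have h3 : Nat.card K = p ^ Module.finrank (ZMod p) K := by
    rw [Module.natCard_eq_pow_finrank (K := ZMod p) (V := K), Nat.card_zmod]
  rw [h3]
  calc 2 ^ Nat.card (K ≃+* K) ≤ 2 ^ Module.finrank (ZMod p) K := Nat.pow_le_pow_right (by norm_num) (h1.trans h2.le)
    _ ≤ p ^ Module.finrank (ZMod p) K := Nat.pow_le_pow_left hp.two_le _

end aut

namespace QP

variable {K V G : Type*} [Field K] [Finite K] [AddCommGroup V] [Module K V] [Finite V] [Nontrivial V]
    [Group G] [Finite G] [DistribMulAction G V] (S : QP K V G)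

theorem two_pow_index_A : 2 ^ S.A.index ≤ Nat.card K := by
  have h1 : S.A.index = Nat.card S.σ.range := by
    have h2 : S.σ.ker = S.A := S.σ_ker
    rw [← h2, index_ker]
  haveI : Finite (K ≃+* K) := Finite.of_injective (fun e => (e : K → K)) DFunLike.coe_injective
  have h3 : Nat.card S.σ.range ≤ Nat.card (K ≃+* K) := Subgroup.card_le_card_group _
  rw [h1]
  exact (Nat.pow_le_pow_right (by norm_num) h3).trans card_ringAut_le

theorem index_A_le : S.A.index ≤ Nat.log 2 (Nat.card K) :=
  Nat.le_log_of_pow_le (by norm_num) S.two_pow_index_A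

theorem card_G_le {a : ℕ} (ha : S.E.relIndex S.A ≤ a) :
    Nat.card G ≤ (Nat.card K - 1) * S.s * a * Nat.log 2 (Nat.card K) := by
  rw [S.card_G_eq]
  have hK : 0 < Nat.card K - 1 := by
    have : 1 < Nat.card K := Finite.one_lt_card
    omega
  have h1 : Nat.card S.U ≤ Nat.card K - 1 := Nat.le_of_dvd hK S.card_U_dvd
  exact Nat.mul_le_mul (Nat.mul_le_mul (Nat.mul_le_mul_right _ h1) ha) S.index_A_le

end QP

end Cfsg.Agent.H511.Wt
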