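import Mathlib
import Cfsg.Agent.H511.Wt.DLBound

/-!
# Lifting colourings to vectors
-/

set_option autoImplicit false
set_option linter.style.haveILetI false
set_option linter.unusedSectionVars false

namespace Cfsg.Agent.H511.Wt

open Subgroup
open scoped Pointwise commutatorElement

universe u

namespace Imp

variable {G V : Type*} [Group G] [Finite G] [AddCommGroup V] [DistribMulAction G V]
variable {M : Subgroup G} {W : G ⧸ M → AddSubgroup V} (D : Imp M W)
include D

theorem comp_eq [Fintype (G ⧸ M)] {f f' : G ⧸ M → V} (hf : ∀ i, f i ∈ W i) (hf' : ∀ i, f' i ∈ W i)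
    (h : ∑ i, f i = ∑ i, f' i) (i : G ⧸ M) : f i = f' i := by
  have h1 := sum_unique D.ind (f := fun i => f i - f' i) (fun i => (W i).sub_mem (hf i) (hf' i)) (by
    rw [Finset.sum_sub_distrib]
    exact sub_eq_zero.2 h) i
  exact sub_eq_zero.1 h1

/-- **Colourings give vectors.** -/
theorem lift {k t Dg : ℕ} (w : Fin k → W ((1 : G) : G ⧸ M)) (wt : Fin k → ℕ)
    (hw : letI := resAct M (W ((1 : G) : G ⧸ M)) D.res_mem
      ∀ i j, i ≠ j → ∀ g : M, g • w i ≠ w j)
    (hwt : letI := resAct M (W ((1 : G) : G ⧸ M)) D.res_mem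
      ∀ i, Wtv M (w i) (wt i))
    (c : Fin t → G ⧸ M → Fin k)
    (hc : ∀ a b, a ≠ b → ∀ g : G, ¬ ∀ i, c b (g • i) = c a i)
    (hD : ∀ a i, ∃ d, d + wt (c a i) ≤ Dg ∧ ∀ S : Subgroup G, (∀ g ∈ S, ∀ x, c a (g • x) = c a x) →
      ∀ g ∈ dser S d, g • i = i) : Orb G V t Dg := by
  classical
  letI := resAct M (W ((1 : G) : G ⧸ M)) D.res_mem
  letI : Fintype (G ⧸ M) := Fintype.ofFinite _
  let v : Fin t → V := fun a => ∑ i : G ⧸ M, i.out • (w (c a i) : V)
  have comp : ∀ a b, ∀ g : G, g • v a = v b → ∀ i, g • i.out • (w (c a i) : V) = (g • i).out • (w (c b (g • i)) : V) := by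
    intro a b g h i
    have h1 : ∑ i : G ⧸ M, g • (g⁻¹ • i).out • (w (c a (g⁻¹ • i)) : V) = ∑ i : G ⧸ M, i.out • (w (c b i) : V) := by
      rw [← show v b = ∑ i : G ⧸ M, i.out • (w (c b i) : V) from rfl, ← h, Finset.smul_sum]
      refine (Fintype.sum_equiv (MulAction.toPerm g) _ _ fun i => ?_).symm
      change g • i.out • (w (c a i) : V) = g • (g⁻¹ • g • i).out • (w (c a (g⁻¹ • g • i)) : V)
      rw [inv_smul_smul]
    have h2 := D.comp_eq (f := fun i => g • (g⁻¹ • i).out • (w (c a (g⁻¹ • i)) : V))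
      (f' := fun i => i.out • (w (c b i) : V)) (by
        intro i
        have h3 := D.smul_mem g (D.out_mem (g⁻¹ • i) (w (c a (g⁻¹ • i))).2)
        rwa [smul_inv_smul] at h3) (fun i => D.out_mem i (w (c b i)).2) h1 (g • i)
    simp only [inv_smul_smul] at h2
    exact h2
  have key : ∀ a b, ∀ g : G, g • v a = v b → ∀ i, c b (g • i) = c a i := by
    intro a b g h i
    by_contra hne
    have h1 := comp a b g h i
    have hm : ((g • i).out)⁻¹ * (g * i.out) ∈ M := by
      have h2 : (((g • i).out : G) : G ⧸ M) = ((g * i.out : G) : G ⧸ M) := by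
        rw [QuotientGroup.out_eq', ← smul_eq_mul, ← MulAction.Quotient.smul_coe, QuotientGroup.out_eq']
      rwa [QuotientGroup.eq] at h2
    refine hw _ _ (Ne.symm hne) ⟨_, hm⟩ (Subtype.ext ?_)
    change (((g • i).out)⁻¹ * (g * i.out)) • (w (c a i) : V) = _
    rw [mul_smul, mul_smul, h1, inv_smul_smul]
  refine ⟨v, ?_, ?_⟩
  · intro a b hab g h
    exact hc a b hab g (key a b g h)
  · intro a x hx
    refine D.trivial_of fun i => ?_
    obtain ⟨d, hd, hfix⟩ := hD a i
    set S := MulAction.stabilizer G (v a) with hS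
    have hSc : ∀ g ∈ S, ∀ x, c a (g • x) = c a x := fun g hg => key a a g hg
    have hL := hfix S hSc
    have hx' : x ∈ dser (dser S d) (wt (c a i)) := by
      rw [dser_dser]
      exact dser_anti S hd hx
    refine D.act_of (L := dser S d) hL ?_ x hx'
    intro P hP m hm
    refine hwt (c a i) m (dser_mono ?_ _ hm)
    intro p hp
    rw [MulAction.mem_stabilizer_iff]
    have h1 := hP p hp
    have h2 : (i.out * (p : G) * i.out⁻¹) • v a = v a := dser_le S d h1
    have h3 := comp a a _ h2 i
    have h4 : (i.out * (p : G) * i.out⁻¹) • i = i := hL _ h1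
    rw [h4, mul_smul, mul_smul, inv_smul_smul] at h3
    have h5 := MulAction.injective i.out h3
    exact Subtype.ext h5

end Imp

section small

theorem dser_perm2 : dser (⊤ : Subgroup (Equiv.Perm (Fin 2))) 1 = ⊥ := by
  have h : ∀ a b : Equiv.Perm (Fin 2), a * b = b * a := by decide
  exact dser_one_of_comm fun a _ b _ => h a b

theorem dser_perm3 : dser (⊤ : Subgroup (Equiv.Perm (Fin 3))) 2 = ⊥ := by
  have h1 : dser (⊤ : Subgroup (Equiv.Perm (Fin 3))) 1 ≤ alternatingGroup (Fin 3) := by
    change ⁅_, _⁆ ≤ _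
    rw [commutator_le]
    intro a _ b _
    rw [Equiv.Perm.mem_alternatingGroup, map_commutatorElement, commutatorElement_eq_one_iff_mul_comm, mul_comm]
  have h2 : dser (alternatingGroup (Fin 3)) 1 = ⊥ := dser_one_of_comm fun a ha b hb => by
    rw [Equiv.Perm.mem_alternatingGroup] at ha hb
    revert a b
    decide
  rw [eq_bot_iff]
  exact dser_add_le h1 h2.le

theorem dser_perm_of_card {Y : Type*} [Finite Y] {m : ℕ} (hm : Nat.card Y = m) (h1 : 1 ≤ m) (h3 : m ≤ 3) :
    dser (⊤ : Subgroup (Equiv.Perm Y)) (m - 1) = ⊥ := by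
  have e : Y ≃ Fin m := Finite.equivFinOfCardEq hm
  have h2 : dser (⊤ : Subgroup (Equiv.Perm (Fin m))) (m - 1) = ⊥ := by
    interval_cases m
    · rw [eq_bot_iff]
      intro x _
      rw [mem_bot]
      exact Subsingleton.elim _ _
    · exact dser_perm2
    · exact dser_perm3
  have h4 : (dser (⊤ : Subgroup (Equiv.Perm Y)) (m - 1)).map e.permCongrHom.toMonoidHom ≤ ⊥ := by
    rw [map_dser, ← h2]
    exact dser_mono le_top _
  rw [eq_bot_iff]
  intro x hx
  have h5 := h4 ⟨x, hx, rfl⟩
  rw [mem_bot] at h5 ⊢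
  exact e.permCongrHom.injective (h5.trans (map_one _).symm)

/-- the derived series of a group preserving a small set -/
theorem dser_fix {G Ω : Type*} [Group G] [MulAction G Ω] (S : Subgroup G) (Y : Set Ω) (hfin : Y.Finite)
    (hY : ∀ g ∈ S, ∀ y ∈ Y, g • y ∈ Y) {m : ℕ} (hm : Y.ncard = m) (h1 : 1 ≤ m) (h3 : m ≤ 3) :
    ∀ g ∈ dser S (m - 1), ∀ y ∈ Y, g • y = y := by
  have : Finite Y := hfin
  let φ : S →* Equiv.Perm Y :=
    MonoidHom.toHomPerm
      { toFun := fun g y => ⟨(g : G) • (y : Ω), hY g g.2 y y.2⟩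
        map_one' := by
          funext y
          exact Subtype.ext (one_smul G (y : Ω))
        map_mul' := fun a b => by
          funext y
          exact Subtype.ext (mul_smul (a : G) (b : G) (y : Ω)) }
  have h4 := dser_perm_of_card (Y := Y) (m := m) (by rw [← hm]; rfl) h1 h3
  intro g hg y hy
  rw [dser_eq_map] at hg
  obtain ⟨s, hs, rfl⟩ := hg
  have h5 : φ s ∈ dser (⊤ : Subgroup (Equiv.Perm Y)) (m - 1) := by
    have h6 : φ s ∈ (dser (⊤ : Subgroup S) (m - 1)).map φ := ⟨s, by rw [dser_top]; exact hs, rfl⟩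
    rw [map_dser] at h6
    exact dser_mono le_top _ h6
  rw [h4, mem_bot] at h5
  have h6 : φ s ⟨y, hy⟩ = ⟨y, hy⟩ := by rw [h5]; rfl
  exact congrArg Subtype.val h6

end small

theorem smul_of_mem_core {G : Type*} [Group G] {M : Subgroup G} {g : G} (hg : g ∈ M.normalCore) (i : G ⧸ M) :
    g • i = i := by
  have h1 : g ∈ (MulAction.toPermHom G (G ⧸ M)).ker := by rwa [← normalCore_eq_ker]
  have h2 : MulAction.toPermHom G (G ⧸ M) g = 1 := h1
  exact congrArg (fun e : Equiv.Perm (G ⧸ M) => e i) h2

/-- colourings of at most four points -/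
theorem Imp.lift_small {G V : Type u} [Group G] [Finite G] [Group.IsSolvable G] [AddCommGroup V]
    [DistribMulAction G V] {M : Subgroup G} (hM : IsCoatom M) {W : G ⧸ M → AddSubgroup V} (D : Imp M W)
    {n k t Dg : ℕ} (hn : M.index = n) (h4 : n ≤ 4) (wt : Fin k → ℕ)
    (h : letI := resAct M (W ((1 : G) : G ⧸ M)) D.res_mem
      ∃ w : Fin k → W ((1 : G) : G ⧸ M), (∀ i j, i ≠ j → ∀ g : M, g • w i ≠ w j) ∧ ∀ i, Wtv M (w i) (wt i))
    (C : Fin t → Fin n → Fin k)
    (h1 : ∀ a b, a ≠ b → ∃ j, (Finset.univ.filter fun i => C a i = j).card ≠ (Finset.univ.filter fun i => C b i = j).card)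
    (h2 : ∀ a i, (Finset.univ.filter fun x => C a x = C a i).card - 1 + wt (C a i) ≤ Dg) : Orb G V t Dg := by
  classical
  letI := resAct M (W ((1 : G) : G ⧸ M)) D.res_mem
  obtain ⟨w, hw, hwt⟩ := h
  have e : G ⧸ M ≃ Fin n := Finite.equivFinOfCardEq hn
  refine D.lift w wt hw hwt (fun a i => C a (e i)) ?_ ?_
  · intro a b hab g h
    obtain ⟨j, hj⟩ := h1 a b hab
    apply hj
    refine Finset.card_bij (fun i _ => e (g • e.symm i)) ?_ ?_ ?_
    · intro i hi
      rw [Finset.mem_filter] at hi ⊢
      refine ⟨Finset.mem_univ _, ?_⟩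
      have := h (e.symm i)
      simp only [Equiv.apply_symm_apply] at this
      rw [this, hi.2]
    · intro i _ i' _ hii
      have := MulAction.injective g (e.injective hii)
      exact e.symm.injective this
    · intro i hi
      rw [Finset.mem_filter] at hi
      refine ⟨e (g⁻¹ • e.symm i), ?_, ?_⟩
      · rw [Finset.mem_filter]
        refine ⟨Finset.mem_univ _, ?_⟩
        have := h (g⁻¹ • e.symm i)
        simp only [smul_inv_smul, Equiv.apply_symm_apply] at this
        rw [← this, hi.2]
      · simp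
  · intro a i
    refine ⟨(Finset.univ.filter fun x => C a x = C a (e i)).card - 1, h2 a (e i), ?_⟩
    intro S hS g hg
    set Y : Set (G ⧸ M) := {x | C a (e x) = C a (e i)} with hY
    have hYc : Y.ncard = (Finset.univ.filter fun x => C a x = C a (e i)).card := by
      have h5 : Y = e ⁻¹' (↑(Finset.univ.filter fun x => C a x = C a (e i)) : Set (Fin n)) := by
        ext x
        simp [hY]
      rw [h5, Set.ncard_preimage_of_injective_subset_range e.injective (by simp), Set.ncard_coe_finset]
    have hpos : 1 ≤ (Finset.univ.filter fun x => C a x = C a (e i)).card := by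
      rw [Nat.one_le_iff_ne_zero, Ne, Finset.card_eq_zero]
      intro h5
      have : e i ∈ (Finset.univ.filter fun x => C a x = C a (e i)) := by
        rw [Finset.mem_filter]
        exact ⟨Finset.mem_univ _, rfl⟩
      rw [h5] at this
      exact absurd this (Finset.notMem_empty _)
    by_cases hle : (Finset.univ.filter fun x => C a x = C a (e i)).card ≤ 3
    · exact dser_fix S Y (Set.toFinite _) (fun g hg y hy => (hS g hg y).trans hy) hYc hpos hle g hg i rfl
    · -- everything has the same colour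
      have h5 : (Finset.univ.filter fun x => C a x = C a (e i)).card ≤ n := by
        refine (Finset.card_filter_le _ _).trans ?_
        rw [Finset.card_univ, Fintype.card_fin]
      have h6 : n = 4 := by omega
      have h7 : (Finset.univ.filter fun x => C a x = C a (e i)).card = 4 := by omega
      rw [h7] at hg
      apply smul_of_mem_core
      have hb : DLn.{u} M.index 2 := by
        rw [hn, h6]
        exact (dln.{u} 4 (by norm_num)).mono (by decide)
      exact dser_le_core hM hb (dser_mono le_top _ hg)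

end Cfsg.Agent.H511.Wt
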