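import Mathlib
import Cfsg.Agent.H511.Wt.Lift

/-!
# The types of irreducible modules, and the imprimitive step
-/

set_option autoImplicit false
set_option linter.style.haveILetI false
set_option linter.unusedSectionVars false

namespace Cfsg.Agent.H511.Wt

open Subgroup
open scoped Pointwise commutatorElement

universe u

/-- the four types -/
def Ty (G V : Type*) [Group G] [AddCommGroup V] [DistribMulAction G V] : Prop :=
  Orb G V 2 5 ∨ (Orb G V 3 7 ∧ Orb G V 2 6) ∨ Orb G V 4 8 ∨ Orb G V 5 9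

/-- five inequivalent colourings with `k` colours, with stabiliser of derived length at most `d` -/
def Col {G : Type*} [Group G] (M : Subgroup G) (k d : ℕ) : Prop :=
  ∃ c : Fin 5 → G ⧸ M → Fin k, (∀ a b, a ≠ b → ∀ g : G, ¬ ∀ i, c b (g • i) = c a i) ∧
    ∀ a, ∀ S : Subgroup G, (∀ g ∈ S, ∀ x, c a (g • x) = c a x) → ∀ g ∈ dser S d, ∀ i : G ⧸ M, g • i = i

/-- the colouring hypothesis -/
def ColH : Prop :=
  ∀ (G : Type u) [Group G] [Finite G] [Group.IsSolvable G] (M : Subgroup G), IsCoatom M → 5 ≤ M.index →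
    Col M 2 3 ∧ Col M 4 0

variable {G V : Type u} [Group G] [Finite G] [Group.IsSolvable G] [AddCommGroup V] [DistribMulAction G V]

theorem Imp.lift_col {M : Subgroup G} {W : G ⧸ M → AddSubgroup V} (D : Imp M W) {k d e Dg : ℕ}
    (hc : Col M k d)
    (h : letI := resAct M (W ((1 : G) : G ⧸ M)) D.res_mem
      Orb M (W ((1 : G) : G ⧸ M)) k e) (hD : d + e ≤ Dg) : Orb G V 5 Dg := by
  letI := resAct M (W ((1 : G) : G ⧸ M)) D.res_mem
  obtain ⟨w, hw, hwt⟩ := h
  obtain ⟨c, h1, h2⟩ := hc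
  exact D.lift w (fun _ => e) hw hwt c h1 fun a i => ⟨d, hD, fun S hS g hg => h2 a S hS g hg i⟩

theorem Imp.lift_s {M : Subgroup G} (hM : IsCoatom M) {W : G ⧸ M → AddSubgroup V} (D : Imp M W)
    {n k t e Dg : ℕ} (hn : M.index = n) (h4 : n ≤ 4)
    (h : letI := resAct M (W ((1 : G) : G ⧸ M)) D.res_mem
      Orb M (W ((1 : G) : G ⧸ M)) k e)
    (C : Fin t → Fin n → Fin k)
    (h1 : ∀ a b, a ≠ b → ∃ j, (Finset.univ.filter fun i => C a i = j).card ≠ (Finset.univ.filter fun i => C b i = j).card)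
    (h2 : ∀ a i, (Finset.univ.filter fun x => C a x = C a i).card - 1 + e ≤ Dg) : Orb G V t Dg :=
  D.lift_small hM hn h4 (fun _ => e) h C h1 h2

/-- **The imprimitive step.** -/
theorem ty_step (hcol : ColH.{u}) {M : Subgroup G} (hM : IsCoatom M) {W : G ⧸ M → AddSubgroup V} (D : Imp M W)
    (h : letI := resAct M (W ((1 : G) : G ⧸ M)) D.res_mem
      Ty M (W ((1 : G) : G ⧸ M))) : Ty G V := by
  letI := resAct M (W ((1 : G) : G ⧸ M)) D.res_mem
  have h0 : M.index ≠ 0 := index_ne_zero_of_finite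
  have h1 : M.index ≠ 1 := by
    rw [Ne, index_eq_one]
    exact hM.1
  by_cases h5 : 5 ≤ M.index
  · obtain ⟨hF, hR⟩ := hcol G M hM h5
    rcases h with h | ⟨_, h⟩ | h | h
    · exact Or.inr (Or.inr (Or.inr (D.lift_col hF h (by norm_num))))
    · exact Or.inr (Or.inr (Or.inr (D.lift_col hF h (by norm_num))))
    · exact Or.inr (Or.inr (Or.inr (D.lift_col hR h (by norm_num))))
    · exact Or.inr (Or.inr (Or.inr (D.lift_col hR (h.mono (by norm_num) le_rfl) (by norm_num))))
  · have hn : M.index = 2 ∨ M.index = 3 ∨ M.index = 4 := by omega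
    rcases hn with hn | hn | hn
    · rcases h with h | ⟨h, _⟩ | h | h
      · -- T1, n = 2
        have h6 : Orb G V 3 6 := D.lift_s hM hn (by norm_num) h ![![0, 0], ![0, 1], ![1, 1]] (by decide) (by decide)
        exact Or.inr (Or.inl ⟨h6.mono le_rfl (by norm_num), h6.mono (by norm_num) le_rfl⟩)
      · refine Or.inr (Or.inr (Or.inr (D.lift_s hM hn (by norm_num) h
          ![![0, 1], ![0, 2], ![1, 2], ![0, 0], ![1, 1]] (by decide) (by decide))))
      · refine Or.inr (Or.inr (Or.inr (D.lift_s hM hn (by norm_num) h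
          ![![0, 1], ![0, 2], ![0, 3], ![1, 2], ![1, 3]] (by decide) (by decide))))
      · refine Or.inr (Or.inr (Or.inr (D.lift_s hM hn (by norm_num) h
          ![![0, 1], ![0, 2], ![0, 3], ![1, 2], ![1, 3]] (by decide) (by decide))))
    · rcases h with h | ⟨h, _⟩ | h | h
      · refine Or.inr (Or.inr (Or.inl (D.lift_s hM hn (by norm_num) h
          ![![0, 0, 0], ![0, 0, 1], ![0, 1, 1], ![1, 1, 1]] (by decide) (by decide))))
      · refine Or.inr (Or.inr (Or.inr (D.lift_s hM hn (by norm_num) h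
          ![![0, 0, 1], ![0, 0, 2], ![1, 1, 0], ![1, 1, 2], ![0, 1, 2]] (by decide) (by decide))))
      · refine Or.inr (Or.inr (Or.inr (D.lift_s hM hn (by norm_num) h
          ![![0, 1, 2], ![0, 1, 3], ![0, 2, 3], ![1, 2, 3], ![0, 0, 1]] (by decide) (by decide))))
      · refine Or.inr (Or.inr (Or.inr (D.lift_s hM hn (by norm_num) h
          ![![0, 1, 2], ![0, 1, 3], ![0, 1, 4], ![0, 2, 3], ![0, 2, 4]] (by decide) (by decide))))
    · rcases h with h | ⟨h, _⟩ | h | h
      · refine Or.inr (Or.inr (Or.inr (D.lift_s hM hn (by norm_num) h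
          ![![0, 0, 0, 0], ![0, 0, 0, 1], ![0, 0, 1, 1], ![0, 1, 1, 1], ![1, 1, 1, 1]] (by decide) (by decide))))
      · refine Or.inr (Or.inr (Or.inr (D.lift_s hM hn (by norm_num) h
          ![![0, 0, 1, 1], ![0, 0, 1, 2], ![1, 1, 0, 2], ![2, 2, 0, 1], ![0, 0, 2, 2]] (by decide) (by decide))))
      · refine Or.inr (Or.inr (Or.inr (D.lift_s hM hn (by norm_num) h
          ![![0, 1, 2, 3], ![0, 0, 1, 2], ![0, 0, 1, 3], ![0, 0, 2, 3], ![1, 1, 2, 3]] (by decide) (by decide))))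
      · refine Or.inr (Or.inr (Or.inr (D.lift_s hM hn (by norm_num) h
          ![![0, 1, 2, 3], ![0, 1, 2, 4], ![0, 1, 3, 4], ![0, 2, 3, 4], ![1, 2, 3, 4]] (by decide) (by decide))))

end Cfsg.Agent.H511.Wt
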