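import Mathlib
import Cfsg.Agent.H511.Wt.Types
import Cfsg.Agent.H511.Wt.MinMod

/-!
# Primitive solvable permutation groups are affine
-/

set_option autoImplicit false
set_option linter.style.haveILetI false
set_option linter.unusedSectionVars false

namespace Cfsg.Agent.H511.Wt

open Subgroup
open scoped Pointwise commutatorElement

universe u

theorem exists_mod0' {G : Type u} [Group G] [Finite G] (M : Subgroup G)
    [hMn : M.Normal] (hM : M ≠ ⊥) (hmin : ∀ N : Subgroup G, N.Normal → N ≤ M → N = ⊥ ∨ N = M)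
    (hcomm : ∀ a ∈ M, ∀ b ∈ M, a * b = b * a) :
    ∃ (X : Type u) (_ : AddCommGroup X) (_ : Finite X) (_ : DistribMulAction G X) (τ : M → X), Irr G X ∧
      Function.Bijective τ ∧ (∀ a b : M, τ (a * b) = τ a + τ b) ∧
      (∀ (g : G) (a : M), τ ⟨g * a * g⁻¹, hMn.conj_mem a a.2 g⟩ = g • τ a) := by
  letI i1 := addOf M hcomm
  letI i2 := actOf M hcomm
  haveI : Finite (Additive M) := inferInstanceAs (Finite M)
  have hirr : Irr G (Additive M) := by
    refine ⟨?_, ?_⟩
    · have : Nontrivial M := (nontrivial_iff_ne_bot M).2 hM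
      exact inferInstanceAs (Nontrivial M)
    · intro W hW
      -- the corresponding subgroup
      let N : Subgroup G :=
        { carrier := {x | ∃ h : x ∈ M, (Additive.ofMul (⟨x, h⟩ : M)) ∈ W}
          mul_mem' := by
            rintro x y ⟨hx, hx'⟩ ⟨hy, hy'⟩
            exact ⟨M.mul_mem hx hy, W.add_mem hx' hy'⟩
          one_mem' := ⟨M.one_mem, W.zero_mem⟩
          inv_mem' := by
            rintro x ⟨hx, hx'⟩
            exact ⟨M.inv_mem hx, W.neg_mem hx'⟩ }
      have hN : N.Normal := by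
        refine ⟨?_⟩
        rintro x ⟨hx, hx'⟩ g
        exact ⟨hMn.conj_mem x hx g, hW g _ hx'⟩
      have hNM : N ≤ M := fun x hx => hx.1
      rcases hmin N hN hNM with h | h
      · left
        rw [eq_bot_iff]
        intro x hx
        have h1 : ((Additive.toMul x : M) : G) ∈ N := ⟨(Additive.toMul x).2, hx⟩
        rw [h, mem_bot] at h1
        rw [AddSubgroup.mem_bot]
        exact Additive.toMul.injective (Subtype.ext h1)
      · right
        rw [eq_top_iff]
        intro x _
        have h1 : ((Additive.toMul x : M) : G) ∈ N := by rw [h]; exact (Additive.toMul x).2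
        exact h1.2
  refine ⟨Additive M, i1, inferInstance, i2, Additive.ofMul, hirr, Additive.ofMul.bijective, ?_, ?_⟩
  · intro a b
    rfl
  · intro g a
    rfl

/-- relative version -/
theorem exists_mod' {G : Type u} [Group G] [Finite G] (C T : Subgroup G)
    [C.Normal] [hTn : T.Normal] (hCT : C < T) (hmin : ∀ N : Subgroup G, N.Normal → C < N → N ≤ T → N = T)
    (hcomm : ⁅T, T⁆ ≤ C) :
    ∃ (X : Type u) (_ : AddCommGroup X) (_ : Finite X) (_ : DistribMulAction G X) (τ : T → X), Irr G X ∧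
      Function.Surjective τ ∧ (∀ a b : T, τ a = τ b ↔ (a : G)⁻¹ * b ∈ C) ∧ (∀ a b : T, τ (a * b) = τ a + τ b) ∧
      (∀ (g : G) (a : T), τ ⟨g * a * g⁻¹, hTn.conj_mem a a.2 g⟩ = g • τ a) := by
  set π := QuotientGroup.mk' C with hπ
  have hπs : Function.Surjective π := QuotientGroup.mk'_surjective C
  have hn1 : (T.map π).Normal := Normal.map inferInstance π hπs
  obtain ⟨X, i1, i2, i3, τ, hirr, hτ, hτm, hτc⟩ := exists_mod0' (T.map π) (by
    rw [Ne, Subgroup.map_eq_bot_iff, QuotientGroup.ker_mk']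
    exact hCT.not_ge) (by
    intro N hN hNT
    by_cases h : C = N.comap π
    · left
      have h2 : N = (N.comap π).map π := (map_comap_eq_self_of_surjective hπs N).symm
      rw [h2, ← h, Subgroup.map_eq_bot_iff, QuotientGroup.ker_mk']
    · right
      have h2 : C ≤ N.comap π := by
        intro c hc
        rw [mem_comap, (show π c = 1 from (QuotientGroup.eq_one_iff c).2 hc)]
        exact N.one_mem
      have h3 : N.comap π ≤ T := by
        have h4 : (T.map π).comap π = T := by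
          rw [comap_map_eq, QuotientGroup.ker_mk', sup_eq_left.2 hCT.le]
        rw [← h4]
        exact comap_mono hNT
      have h4 := hmin _ inferInstance (lt_of_le_of_ne h2 h) h3
      rw [← h4, map_comap_eq_self_of_surjective hπs]) (by
    rintro _ ⟨a, ha, rfl⟩ _ ⟨b, hb', rfl⟩
    have h2 : π ⁅a, b⁆ = 1 := (QuotientGroup.eq_one_iff _).2 (hcomm (commutator_mem_commutator ha hb'))
    rwa [map_commutatorElement, commutatorElement_eq_one_iff_mul_comm] at h2)
  letI := DistribMulAction.compHom X π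
  refine ⟨X, i1, i2, inferInstance, fun t => τ ⟨π t, t, t.2, rfl⟩, ⟨hirr.nt, fun U hU => hirr.irr U ?_⟩, ?_, ?_, ?_, ?_⟩
  · intro g x hx
    obtain ⟨g, rfl⟩ := hπs g
    exact hU g x hx
  · intro x
    obtain ⟨⟨_, t, ht, rfl⟩, rfl⟩ := hτ.2 x
    exact ⟨⟨t, ht⟩, rfl⟩
  · intro a b
    constructor
    · intro h
      have h1 := congrArg Subtype.val (hτ.1 h)
      exact QuotientGroup.eq.1 h1
    · intro h
      have h1 : π a = π b := QuotientGroup.eq.2 h
      exact congrArg τ (Subtype.ext h1)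
  · intro a b
    rw [← hτm]
    congr 1
  · intro g a
    change _ = π g • τ _
    rw [← hτc]
    congr 1

/-- **Primitive solvable groups are affine.** -/
theorem exists_aff {G : Type u} [Group G] [Finite G] [Group.IsSolvable G] {M : Subgroup G} (hM : IsCoatom M) :
    ∃ (X : Type u) (_ : AddCommGroup X) (_ : Finite X) (_ : DistribMulAction G X) (φ : X ≃ G ⧸ M) (δ : G → X),
      Irr G X ∧ (∀ g x, g • φ x = φ (g • x + δ g)) ∧ ∀ g : G, (∀ x : X, g • x = x) → δ g = 0 → g ∈ M.normalCore := by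
  classical
  obtain ⟨T, hT, h1, h2, h3, h4, h5, h6, h7⟩ := coatom_struct' hM
  obtain ⟨X, i1, i2, i3, τ, hirr, hτs, hτe, hτm, hτc⟩ := exists_mod' M.normalCore T h1 h2 h3
  -- `T` acts trivially
  have htriv : ∀ t ∈ T, ∀ x : X, t • x = x := by
    intro t ht x
    obtain ⟨a, rfl⟩ := hτs x
    rw [← hτc, hτe]
    change (t * a * t⁻¹ : G)⁻¹ * a ∈ M.normalCore
    have h8 : (t * a * t⁻¹ : G)⁻¹ * a = ⁅t, (a : G)⁻¹⁆ := by rw [commutatorElement_def]; group
    rw [h8]
    exact h3 (commutator_mem_commutator ht (T.inv_mem a.2))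
  -- the bijection
  let σ : X → G ⧸ M := fun x => (((hτs x).choose : G) : G ⧸ M)
  have hσ : ∀ t : T, σ (τ t) = ((t : G) : G ⧸ M) := by
    intro t
    have h8 := (hτs (τ t)).choose_spec
    rw [hτe] at h8
    exact QuotientGroup.eq.2 (M.normalCore_le h8)
  have hσb : Function.Bijective σ := by
    constructor
    · intro x y hxy
      obtain ⟨a, rfl⟩ := hτs x
      obtain ⟨b, rfl⟩ := hτs y
      rw [hσ, hσ, QuotientGroup.eq] at hxy
      rw [hτe, ← h6]
      exact ⟨T.mul_mem (T.inv_mem a.2) b.2, hxy⟩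
    · intro q
      obtain ⟨g, rfl⟩ := QuotientGroup.mk_surjective q
      have h8 : g ∈ M ⊔ T := by rw [h7]; exact mem_top g
      rw [sup_comm] at h8
      obtain ⟨t, ht, m, hm, rfl⟩ := mem_sup_of_normal_left.1 h8
      refine ⟨τ ⟨t, ht⟩, ?_⟩
      rw [hσ, QuotientGroup.eq]
      simpa using hm
  have hdec : ∀ g : G, ∃ t : T, (t : G)⁻¹ * g ∈ M := by
    intro g
    have h8 : g ∈ M ⊔ T := by rw [h7]; exact mem_top g
    rw [sup_comm] at h8
    obtain ⟨t, ht, m, hm, rfl⟩ := mem_sup_of_normal_left.1 h8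
    exact ⟨⟨t, ht⟩, by simpa using hm⟩
  choose tt htt using hdec
  refine ⟨X, i1, i2, i3, Equiv.ofBijective σ hσb, fun g => τ (tt g), hirr, ?_, ?_⟩
  · intro g x
    obtain ⟨a, rfl⟩ := hτs x
    change g • σ (τ a) = σ (g • τ a + τ (tt g))
    have h8 : g • τ a = τ ⟨((tt g : G)⁻¹ * g) * a * ((tt g : G)⁻¹ * g)⁻¹, hT.conj_mem a a.2 _⟩ := by
      rw [hτc, mul_smul, htriv _ (T.inv_mem (tt g).2)]
    rw [h8, add_comm, ← hτm, hσ, hσ, MulAction.Quotient.smul_coe, smul_eq_mul, QuotientGroup.eq]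
    change (g * (a : G))⁻¹ * ((tt g : G) * (((tt g : G)⁻¹ * g) * a * ((tt g : G)⁻¹ * g)⁻¹)) ∈ M
    have h9 : (g * (a : G))⁻¹ * ((tt g : G) * (((tt g : G)⁻¹ * g) * a * ((tt g : G)⁻¹ * g)⁻¹)) =
        ((tt g : G)⁻¹ * g)⁻¹ := by group
    rw [h9]
    exact M.inv_mem (htt g)
  · intro g hg hδ
    have hδ' : τ (tt g) = 0 := hδ
    -- `tt g` is in the core
    have h8 : (tt g : G) ∈ M.normalCore := by
      have h9 : τ 1 = 0 := by
        have := hτm 1 1
        rw [one_mul] at this
        exact (add_eq_left.1 this.symm)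
      rw [← h9, eq_comm, hτe] at hδ'
      simpa using hδ'
    have h9 : g ∈ cenMod M.normalCore T := by
      rw [mem_cenMod]
      intro y hy
      have h10 := hg (τ ⟨y, hy⟩)
      rw [← hτc, eq_comm, hτe] at h10
      have h11 : (y : G)⁻¹ * (g * y * g⁻¹) ∈ M.normalCore := h10
      have h12 : ⁅g, y⁆ = y * (y⁻¹ * (g * y * g⁻¹)) * y⁻¹ := by rw [commutatorElement_def]; group
      rw [h12]
      exact M.normalCore_normal.conj_mem _ h11 y
    rw [h5] at h9
    have h10 : g ∈ M := by
      have h11 := M.mul_mem (M.normalCore_le h8) (htt g)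
      rwa [mul_inv_cancel_left] at h11
    rw [← h6]
    exact ⟨h9, h10⟩

end Cfsg.Agent.H511.Wt
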